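import Mathlib
import Cfsg.Agent.Lib.HN3.Base
import Cfsg.Agent.Lib.HNOut25.HPoints

/-!
# Facts inside the group of degree 1408

`K = ⟨y, x⁻¹yx⟩` is the stabiliser of the point 0, its centraliser lies in `⟨x⟩ K`, `y` is not conjugate to
`y c`, and the only involution centralising the element `P` of order 11 is `c = x²`.
-/

set_option autoImplicit false
set_option maxRecDepth 10000

namespace Cfsg.Agent.Lib.HNOut25

open Cfsg.Agent.Lib.HN3

/-- `x` -/
noncomputable def Xb : Hbar := rep.f 0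

/-- `y` -/
noncomputable def Yb : Hbar := rep.f 2

/-- `x⁻¹yx` -/
noncomputable def Ab : Hbar := Xb⁻¹ * Yb * Xb

/-- the element of order 11 -/
noncomputable def Pb : Hbar := rep.ev pWord

/-- `⟨y, x⁻¹yx⟩` -/
noncomputable def Kb : Subgroup Hbar := Subgroup.closure {Yb, Ab}

theorem hbar_ext {g h : Hbar} (e : ∀ p < 1408, rep.pt g p = rep.pt h p) : g = h :=
  Subtype.ext (perm_ext e)

theorem ev_eq_of_check {u v : List ℕ}
    (e : belowB (fun p => Nat.beq (hPk.go u p) (hPk.go v p)) 1408 = true) : rep.ev u = rep.ev v := by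
  refine hbar_ext fun p hp => ?_
  have := beqN_iff.1 (belowB_iff.1 e p hp)
  rwa [rep.go_eq u p (by rwa [hPk_n]), rep.go_eq v p (by rwa [hPk_n])] at this

theorem f_inv (l : ℕ) (hl : l < 7) : rep.f (nth 0 hInv l) = (rep.f l)⁻¹ :=
  Subtype.ext (permRep_inv l hl)

theorem ev_x2 : rep.ev [9] = Xb ^ 2 := by
  rw [Rep.ev, show decode [9] = [0, 0] by decide +kernel]
  simp [Xb, sq]

theorem ev_y : rep.ev [3] = Yb := by
  rw [Rep.ev, show decode [3] = [2] by decide +kernel]
  simp [Yb]

theorem ev_a : rep.ev [90] = Ab := by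
  rw [Rep.ev, show decode [90] = [1, 2, 0] by decide +kernel]
  simp [Ab, Xb, Yb, mul_assoc, ← f_inv 0 (by decide), show nth 0 hInv 0 = 1 from rfl]

theorem go_ev {u : List ℕ} {g : Hbar} (h : rep.ev u = g) {p : ℕ} (hp : p < 1408) :
    rep.pt g p = hPk.go u p := by
  rw [← h, rep.go_eq u p (by rwa [hPk_n])]

theorem pt_lt' (g : Hbar) {p : ℕ} (hp : p < 1408) : rep.pt g p < 1408 := by
  have := rep.pt_lt g p (by rwa [hPk_n])
  rwa [hPk_n] at this

theorem go_lt (u : List ℕ) {p : ℕ} (hp : p < 1408) : hPk.go u p < 1408 := by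
  rw [rep.go_eq u p (by rwa [hPk_n])]; exact pt_lt' _ hp

/-- the stabiliser of the point 0 -/
noncomputable def stab0 : Subgroup Hbar where
  carrier := {g | rep.pt g 0 = 0}
  one_mem' := rep.pt_one 0
  mul_mem' := fun {a b} ha hb => by
    show rep.pt (a * b) 0 = 0
    rw [rep.pt_mul, show rep.pt a 0 = 0 from ha]; exact hb
  inv_mem' := fun {a} ha => rep.pt_inv ha

theorem toZero_pt {p : ℕ} (hp : p < 1408) : rep.pt (rep.ev (toZero p)) p = 0 := by
  have h := belowB_iff.1 cover_ok p hp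
  rw [band_eq, Bool.and_eq_true, beqN_iff] at h
  rw [← rep.go_eq _ p (by rwa [hPk_n])]; exact h.1

theorem fromZero_pt {p : ℕ} (hp : p < 1408) : rep.pt (rep.ev (fromZero p)) 0 = p := by
  have h := belowB_iff.1 cover_ok p hp
  rw [band_eq, Bool.and_eq_true, beqN_iff, beqN_iff] at h
  rw [← rep.go_eq _ 0 (by rw [hPk_n]; omega)]; exact h.2

theorem Kb_le_stab0 : Kb ≤ stab0 := by
  rw [Kb, Subgroup.closure_le]
  rintro g (rfl | rfl)
  · show rep.pt Yb 0 = 0
    rw [go_ev ev_y (by omega)]; decide +kernel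
  · show rep.pt Ab 0 = 0
    rw [go_ev ev_a (by omega)]; decide +kernel

theorem cGens_mem : ∀ u : List ℕ,
    (∀ t ∈ u, [t] ∈ [[cTokens.getD 0 0], [cTokens.getD 1 0], [cTokens.getD 2 0], [cTokens.getD 3 0]]) →
      rep.ev u ∈ Kb
  | [], _ => by rw [rep.ev_nil]; exact one_mem _
  | t :: u, h => by
    rw [show t :: u = [t] ++ u from rfl, rep.ev_append]
    refine mul_mem ?_ (cGens_mem u fun s hs => h s (by simp [hs]))
    have hy : Yb ∈ Kb := Subgroup.subset_closure (by simp)
    have ha : Ab ∈ Kb := Subgroup.subset_closure (by simp)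
    have ht := h t (by simp)
    simp only [cTokens, List.getD_cons_zero, List.getD_cons_succ, List.mem_cons, List.not_mem_nil,
      or_false, List.cons.injEq, and_true] at ht
    rcases ht with rfl | rfl | rfl | rfl
    · rwa [ev_y]
    · rw [Rep.ev, show decode [4] = [3] by decide +kernel]
      simpa [show (3 : ℕ) = nth 0 hInv 2 from rfl, f_inv 2 (by decide), Yb] using hy
    · rwa [ev_a]
    · rw [Rep.ev, show decode [98] = [1, 3, 0] by decide +kernel]
      have : rep.f 1 * (rep.f 3 * rep.f 0) = Ab⁻¹ := by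
        rw [show (3 : ℕ) = nth 0 hInv 2 from rfl, f_inv 2 (by decide),
          show (1 : ℕ) = nth 0 hInv 0 from rfl, f_inv 0 (by decide), Ab, Yb, Xb]
        group
      simpa [this] using inv_mem ha

theorem stab0_eq (hB : HBound) : stab0 = Kb := by
  symm
  refine Subgroup.eq_of_le_of_card_ge Kb_le_stab0 ?_
  have hfix : rep.fixAll hBase ≤ Kb := fun g hg => by rw [inj_base hB g hg]; exact one_mem _
  have hw : rep.wgroup (headGens cChain) ≤ Kb := by
    rw [Rep.wgroup, Subgroup.closure_le]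
    rintro _ ⟨u, hu, rfl⟩
    refine cGens_mem u fun t ht => ?_
    have h := forallB_iff.1 (forallB_iff.1 cChain_gens u hu) t ht
    refine memW_iff.1 ?_
    revert h; cases memW [t] _ <;> simp
  have h1 := rep.chainCard_mul_le hBase_lt cChain cChain_ok Kb hw hfix
  rw [cChain_card] at h1
  have h2 : 126000 ≤ Nat.card Kb :=
    le_trans (Nat.le_mul_of_pos_right _ Nat.card_pos) h1
  let φ : stab0 × Fin 1408 → Hbar := fun a => a.1.1 * rep.ev (fromZero a.2)
  have hφ : Function.Injective φ := by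
    rintro ⟨a, i⟩ ⟨a', i'⟩ e
    have hi : i = i' := by
      have h := congrArg (fun g => rep.pt g 0) e
      simp only [φ, rep.pt_mul, show rep.pt a.1 0 = 0 from a.2, show rep.pt a'.1 0 = 0 from a'.2,
        fromZero_pt i.2, fromZero_pt i'.2] at h
      exact Fin.ext h
    subst hi
    rw [Subtype.ext (mul_right_cancel e : a.1 = a'.1)]
  have h3 := Nat.card_le_card_of_injective φ hφ
  rw [Nat.card_prod, Nat.card_fin, card_Hbar hB] at h3
  omega

theorem card_Kb (hB : HBound) : Nat.card Kb = 126000 := by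
  rw [← stab0_eq hB]
  let e : stab0 × Fin 1408 ≃ Hbar := Equiv.ofBijective (fun a => a.1.1 * rep.ev (fromZero a.2)) ⟨by
    rintro ⟨a, i⟩ ⟨a', i'⟩ e
    have hi : i = i' := by
      have h := congrArg (fun g => rep.pt g 0) e
      simp only [rep.pt_mul, show rep.pt a.1 0 = 0 from a.2, show rep.pt a'.1 0 = 0 from a'.2,
        fromZero_pt i.2, fromZero_pt i'.2] at h
      exact Fin.ext h
    subst hi
    rw [Subtype.ext (mul_right_cancel e : a.1 = a'.1)], fun g => by
    have hp := pt_lt' g (p := 0) (by omega)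
    refine ⟨(⟨g * (rep.ev (fromZero (rep.pt g 0)))⁻¹, ?_⟩, ⟨_, hp⟩), by simp⟩
    show rep.pt (g * _) 0 = 0
    rw [rep.pt_mul]
    exact rep.pt_inv (fromZero_pt hp)⟩
  have := Nat.card_congr e
  rw [Nat.card_prod, Nat.card_fin, card_Hbar hB] at this
  omega

theorem fix_ok : belowB (fun p => borB
    (Bool.rec (motive := fun _ => Bool) true false
      (band (Nat.beq (hPk.go [3] p) p) (Nat.beq (hPk.go [90] p) p)))
    (borB (Nat.beq p (hPk.go [] 0)) (borB (Nat.beq p (hPk.go [1] 0))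
      (borB (Nat.beq p (hPk.go [9] 0)) (Nat.beq p (hPk.go [73] 0)))))) 1408 = true := by
  decide +kernel

theorem borB_iff {a b : Bool} : borB a b = true ↔ a = true ∨ b = true := by cases a <;> simp [borB]

theorem notB_iff {a : Bool} : Bool.rec (motive := fun _ => Bool) true false a = true ↔ ¬ a = true := by
  cases a <;> simp

/-- an element moving 0 to a fixed point of `y` and `x⁻¹yx` lies in some `K x^i` -/
theorem fixed_mem (hB : HBound) {h : Hbar} (hy0 : rep.pt Yb (rep.pt h 0) = rep.pt h 0)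
    (ha0 : rep.pt Ab (rep.pt h 0) = rep.pt h 0) : ∃ i : ℕ, h * (Xb ^ i)⁻¹ ∈ Kb := by
  have hp := pt_lt' h (p := 0) (by omega)
  have h4 := belowB_iff.1 fix_ok _ hp
  simp only [borB_iff, notB_iff, band_eq, Bool.and_eq_true, beqN_iff, ← go_ev ev_y hp, ← go_ev ev_a hp] at h4
  have key : ∀ (u : List ℕ) (i : ℕ), decode u = List.replicate i 0 → rep.pt h 0 = hPk.go u 0 →
      h * (Xb ^ i)⁻¹ ∈ Kb := by
    intro u i hu he
    rw [rep.go_eq u 0 (by rw [hPk_n]; omega)] at he
    have hev : rep.ev u = Xb ^ i := by simp [Rep.ev, hu, Xb]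
    rw [hev] at he
    rw [← stab0_eq hB]
    show rep.pt (h * (Xb ^ i)⁻¹) 0 = 0
    rw [rep.pt_mul, he, ← rep.pt_mul, mul_inv_cancel, rep.pt_one]
  rcases h4 with h4 | h4 | h4 | h4 | h4
  · exact absurd ⟨hy0, ha0⟩ h4
  · exact ⟨0, key [] 0 rfl h4⟩
  · exact ⟨1, key [1] 1 (by decide +kernel) h4⟩
  · exact ⟨2, key [9] 2 (by decide +kernel) h4⟩
  · exact ⟨3, key [73] 3 (by decide +kernel) h4⟩

/-- an element commuting with `y` and `x⁻¹yx` lies in some `K x^i` -/
theorem central_mem (hB : HBound) {h : Hbar} (hy : Commute h Yb) (ha : Commute h Ab) :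
    ∃ i : ℕ, h * (Xb ^ i)⁻¹ ∈ Kb := by
  have hfix : ∀ g : Hbar, Commute h g → rep.pt g 0 = 0 → rep.pt g (rep.pt h 0) = rep.pt h 0 := by
    intro g hg h0
    rw [← rep.pt_mul, hg.eq, rep.pt_mul, h0]
  exact fixed_mem hB (hfix Yb hy (Kb_le_stab0 (Subgroup.subset_closure (by simp))))
    (hfix Ab ha (Kb_le_stab0 (Subgroup.subset_closure (by simp))))

theorem nofix_ok : belowB (fun p => band
    (Bool.rec (motive := fun _ => Bool) true false (Nat.beq (hPk.go [3, 9] p) p))
    (Bool.rec (motive := fun _ => Bool) true false (Nat.beq (hPk.go [90, 9] p) p))) 1408 = true := by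
  decide +kernel

theorem noTwist {g : Hbar} (hg : g = Yb ∨ g = Ab) (h : Hbar) : h * g * h⁻¹ ≠ g * Xb ^ 2 := by
  intro e
  set q := rep.pt h⁻¹ 0 with hq
  have hq1 : q < 1408 := pt_lt' _ (by omega)
  have hg0 : rep.pt g 0 = 0 := by
    rcases hg with rfl | rfl <;> exact Kb_le_stab0 (Subgroup.subset_closure (by simp))
  have hfix : rep.pt (g * Xb ^ 2) q = q := by
    rw [← e, rep.pt_mul, rep.pt_mul, hq, ← rep.pt_mul h⁻¹ h 0, inv_mul_cancel, rep.pt_one, hg0]
  have h4 := belowB_iff.1 nofix_ok q hq1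
  simp only [band_eq, Bool.and_eq_true, notB_iff, beqN_iff] at h4
  rcases hg with rfl | rfl
  · refine h4.1 ?_
    rw [← go_ev (g := Yb * Xb ^ 2) (by rw [show ([3, 9] : List ℕ) = [3] ++ [9] from rfl, rep.ev_append,
      ev_y, ev_x2]) hq1]
    exact hfix
  · refine h4.2 ?_
    rw [← go_ev (g := Ab * Xb ^ 2) (by rw [show ([90, 9] : List ℕ) = [90] ++ [9] from rfl, rep.ev_append,
      ev_a, ev_x2]) hq1]
    exact hfix

/-- an element preserves the labels -/
def KeepsLab (g : Hbar) : Prop := ∀ q < 1408, at16 kLab (rep.pt g q) = at16 kLab q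

theorem keepsLab_of_mem {g : Hbar} (hg : g ∈ Kb) : KeepsLab g := by
  refine Subgroup.closure_induction (p := fun g _ => KeepsLab g) ?_ ?_ ?_ ?_ hg
  · rintro g (rfl | rfl) q hq <;>
      (have h := belowB_iff.1 lab_ok q hq; simp only [band_eq, Bool.and_eq_true, beqN_iff] at h)
    · show at16 kLab (rep.pt (rep.f 2) q) = _
      rw [rep.pt_f 2 q (by decide) (by rwa [hPk_n])]; exact h.1
    · rw [go_ev ev_a hq]; exact h.2
  · intro q _; rw [rep.pt_one]
  · intro a b _ _ ha hb q hq
    rw [rep.pt_mul, hb _ (pt_lt' a hq), ha q hq]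
  · intro a _ ha q hq
    have := ha (rep.pt a⁻¹ q) (pt_lt' _ hq)
    rw [← rep.pt_mul, inv_mul_cancel, rep.pt_one] at this
    exact this.symm

theorem col_inv (hB : HBound) (g : Hbar) {p q : ℕ} (hp : p < 1408) (hq : q < 1408) :
    col (rep.pt g p) (rep.pt g q) = col p q := by
  set v := rep.ev (toZero p)
  set v' := rep.ev (toZero (rep.pt g p))
  have hk : v⁻¹ * g * v' ∈ Kb := by
    rw [← stab0_eq hB]
    show rep.pt (v⁻¹ * g * v') 0 = 0
    rw [rep.pt_mul, rep.pt_mul, rep.pt_inv (toZero_pt hp)]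
    exact toZero_pt (pt_lt' g hp)
  have h := keepsLab_of_mem hk (rep.pt v q) (pt_lt' _ hq)
  rw [← rep.pt_mul, show v * (v⁻¹ * g * v') = g * v' by group, rep.pt_mul] at h
  simp only [col]
  rw [rep.go_eq _ q (by rwa [hPk_n]), rep.go_eq _ _ (by rw [hPk_n]; exact pt_lt' g hq)]
  exact h

theorem pIt_eq : ∀ (j : ℕ) {p : ℕ}, p < 1408 → pIt j p = rep.pt (Pb ^ j) p
  | 0, p, _ => by simp [pIt, rep.pt_one]
  | j + 1, p, hp => by
    show hPk.go pWord (pIt j p) = _
    rw [pIt_eq j hp, pow_succ, rep.pt_mul, rep.go_eq pWord _ (by rw [hPk_n]; exact pt_lt' _ hp)]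
    rfl

theorem pIt_lt (j : ℕ) {p : ℕ} (hp : p < 1408) : pIt j p < 1408 := by
  rw [pIt_eq j hp]; exact pt_lt' _ hp

theorem pIt_comm {u : Hbar} (hu : Commute u Pb) (j : ℕ) {p : ℕ} (hp : p < 1408) :
    rep.pt u (pIt j p) = pIt j (rep.pt u p) := by
  rw [pIt_eq j hp, pIt_eq j (pt_lt' u hp), ← rep.pt_mul, ← rep.pt_mul, (hu.pow_right j).eq]

theorem imgB_true (hB : HBound) {u : Hbar} (hu : Commute u Pb) {q : ℕ} (hq : q < 1408) (k : ℕ) :
    imgB k (rep.pt u 0) q (rep.pt u q) = true := by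
  refine belowB_iff.2 fun j _ => ?_
  simp only [hold_eq, beqN_iff]
  rw [← pIt_comm hu j (p := 0) (by omega)]
  exact col_inv hB u (pIt_lt j (by omega)) hq

theorem eq_one_of_fix (hB : HBound) {u : Hbar} (hu : Commute u Pb) (h0 : rep.pt u 0 = 0) : u = 1 := by
  have hi : ∀ q < 1408, ∀ k, imgB k 0 q (rep.pt u q) = true := fun q hq k => by
    have := imgB_true hB hu hq k
    rwa [h0] at this
  have e1 : rep.pt u 196 = 196 := by
    have h := belowB_iff.1 img196_ok _ (pt_lt' u (p := 196) (by omega))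
    simp only [borB_iff, notB_iff, beqN_iff] at h
    exact h.resolve_right fun h' => h' (hi 196 (by omega) 11)
  have e2 : rep.pt u 242 = 242 := by
    have h := belowB_iff.1 img242_ok _ (pt_lt' u (p := 242) (by omega))
    simp only [borB_iff, notB_iff, beqN_iff] at h
    exact h.resolve_right fun h' => h' (hi 242 (by omega) 11)
  have e3 : rep.pt u 1336 = 1336 := by
    have h := belowB_iff.1 img1336_ok _ (pt_lt' u (p := 1336) (by omega))
    simp only [borB_iff, notB_iff, beqN_iff] at h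
    rcases h with h | h | h
    · exact h
    · exact absurd (hi 1336 (by omega) 11) h
    · refine absurd ?_ h
      have := col_inv hB u (pIt_lt 4 (p := 196) (by omega)) (q := 1336) (by omega)
      rwa [pIt_comm hu 4 (by omega), e1] at this
  refine inj_base hB u ?_
  simp [Rep.imgs, hBase, h0, e1, e2, e3]

theorem Pb_ne : Pb ≠ 1 := by
  intro e
  have h : hPk.go pWord 0 = 0 := by
    rw [rep.go_eq _ _ (by rw [hPk_n]; omega), show rep.ev pWord = 1 from e, rep.pt_one]
  revert h; decide +kernel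

theorem orderOf_Pb : orderOf Pb = 11 := by
  haveI : Fact (Nat.Prime 11) := ⟨by norm_num⟩
  refine orderOf_eq_prime (hbar_ext fun p hp => ?_) Pb_ne
  rw [← pIt_eq 11 hp, rep.pt_one]
  exact beqN_iff.1 (belowB_iff.1
    (show belowB (fun p => Nat.beq (pIt 11 p) p) 1408 = true by decide +kernel) p hp)

theorem c_comm_P : Commute (Xb ^ 2) Pb := by
  show Xb ^ 2 * rep.ev pWord = rep.ev pWord * Xb ^ 2
  rw [← ev_x2, ← rep.ev_append, ← rep.ev_append]
  exact ev_eq_of_check (by decide +kernel)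

theorem c_mul_c : Xb ^ 2 * Xb ^ 2 = 1 := by
  rw [← ev_x2, ← rep.ev_append, ← rep.ev_nil]
  exact ev_eq_of_check (by decide +kernel)

theorem c_ne_one : Xb ^ 2 ≠ 1 := by
  intro e
  have h : hPk.go [9] 0 = 0 := by
    rw [rep.go_eq _ _ (by rw [hPk_n]; omega), ev_x2, e, rep.pt_one]
  revert h; decide +kernel

/-- the only involution centralising `P` is `c` -/
theorem invol_P (hB : HBound) {u : Hbar} (hu : Commute u Pb) (h2 : u * u = 1) (h1 : u ≠ 1) :
    u = Xb ^ 2 := by
  set b := rep.pt u 0 with hb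
  have hb1 : b < 1408 := pt_lt' _ (by omega)
  have hub : rep.pt u b = 0 := by rw [hb, ← rep.pt_mul, h2, rep.pt_one]
  have hpair : pairB b = true := by
    refine belowB_iff.2 fun j _ => ?_
    simp only [hold_eq, band_eq, Bool.and_eq_true, beqN_iff]
    constructor
    · have := col_inv hB u (p := 0) (q := pIt j b) (by omega) (pIt_lt j hb1)
      rw [pIt_comm hu j hb1, hub, ← hb] at this
      exact this.symm
    · have := col_inv hB u (p := 0) (q := pIt j 0) (by omega) (pIt_lt j (by omega))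
      rw [pIt_comm hu j (p := 0) (by omega), ← hb] at this
      exact this
  have h := belowB_iff.1 dead_ok b hb1
  simp only [borB_iff, deadB, notB_iff, beqN_iff] at h
  rcases h with (h | h) | h | h
  · exact absurd hpair h
  · have h' := belowB_iff.1 h _ (pt_lt' u (p := 4) (by omega))
    exact absurd (imgB_true hB hu (q := 4) (by omega) 6) (notB_iff.1 h')
  · exact absurd (eq_one_of_fix hB hu h) h1
  · have h3 : rep.pt (Xb ^ 2) 3 = 0 := by rw [go_ev ev_x2 (by omega)]; decide +kernel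
    have e : u * Xb ^ 2 = 1 := eq_one_of_fix hB (hu.mul_left c_comm_P) (by rw [rep.pt_mul, ← hb, h, h3])
    calc u = u * (Xb ^ 2 * Xb ^ 2) := by rw [c_mul_c, mul_one]
      _ = Xb ^ 2 := by rw [← mul_assoc, e, one_mul]

end Cfsg.Agent.Lib.HNOut25
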