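import Mathlib
import Cfsg.Agent.Lib.HN3.HRel

/-!
# The relations of the presented Harada–Norton group, by hand

`c = x²`, `θ : (x, y, z, t) ↦ (x, y, z c, t²)` preserves the relations, and `(z c t)³ ≠ 1` once `t ≠ 1`.
-/

set_option autoImplicit false

namespace Cfsg.Agent.Lib.HNOut25

variable {G : Type*} [Group G]

/-- The fourteen relations, with `x⁴ = 1`. -/
structure Rel (x y z t : G) : Prop where
  hrel : Cfsg.Agent.Lib.HN3.HRel x y z
  x4 : x ^ 4 = 1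
  t5 : t ^ 5 = 1
  xt : (x⁻¹ * t * x) * (t ^ 2) = 1
  ty : t⁻¹ * y⁻¹ * t * y = 1
  zt : (z * t) ^ 3 = 1

namespace Rel

variable {x y z t : G} (h : Rel x y z t)
include h

theorem c_mul_c : x ^ 2 * x ^ 2 = 1 := by rw [← pow_add]; exact h.x4

theorem c_inv : (x ^ 2)⁻¹ = x ^ 2 := inv_eq_of_mul_eq_one_left h.c_mul_c

theorem z_mul_z : z * z = 1 := by rw [← sq]; exact h.hrel.r7

theorem z_inv : z⁻¹ = z := inv_eq_of_mul_eq_one_left h.z_mul_z

theorem zxz : z * x * z = x⁻¹ := by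
  have h8 : z * x * z * x = 1 := by
    have := h.hrel.r8
    rwa [sq, ← mul_assoc] at this
  exact eq_inv_of_mul_eq_one_left h8

theorem c_comm_x : Commute (x ^ 2) x := (Commute.refl x).pow_left 2

theorem c_comm_y : Commute (x ^ 2) y := by
  have h2 : x ^ 2 * y * x ^ 2 = y := mul_inv_eq_one.1 h.hrel.r2
  show x ^ 2 * y = y * x ^ 2
  calc x ^ 2 * y = x ^ 2 * y * (x ^ 2 * x ^ 2) := by rw [h.c_mul_c, mul_one]
    _ = x ^ 2 * y * x ^ 2 * x ^ 2 := by simp only [mul_assoc]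
    _ = y * x ^ 2 := by rw [h2]

theorem c_comm_z : Commute (x ^ 2) z := by
  have h1 : z * x ^ 2 * z = x ^ 2 := by
    calc z * x ^ 2 * z = (z * x * z) * (z * x * z) := by
          simp only [sq, mul_assoc]; rw [← mul_assoc z z, h.z_mul_z, one_mul]
      _ = (x ^ 2)⁻¹ := by rw [h.zxz, sq, mul_inv_rev]
      _ = x ^ 2 := h.c_inv
  show x ^ 2 * z = z * x ^ 2
  nth_rewrite 1 [← h1]
  rw [mul_assoc _ z z, h.z_mul_z, mul_one]

/-- Conjugation by `x⁻¹` twists `z`. -/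
theorem xzx : x⁻¹ * z * x = z * x ^ 2 := by
  calc x⁻¹ * z * x = z * x * z * z * x := by rw [h.zxz]
    _ = z * x * (z * z) * x := by simp only [mul_assoc]
    _ = z * x ^ 2 := by rw [h.z_mul_z, mul_one, mul_assoc, sq]

theorem xtx : x⁻¹ * t * x = (t ^ 2)⁻¹ := eq_inv_of_mul_eq_one_left h.xt

theorem xtx' : x * t * x⁻¹ = t ^ 2 := by
  have h1 : x⁻¹ * t ^ 2 * x = t := by
    calc x⁻¹ * t ^ 2 * x = (x⁻¹ * t * x) * (x⁻¹ * t * x) := by rw [sq]; group
      _ = (t ^ 2)⁻¹ * (t ^ 2)⁻¹ := by rw [h.xtx]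
      _ = t ^ 5 * ((t ^ 2)⁻¹ * (t ^ 2)⁻¹) := by rw [h.t5, one_mul]
      _ = t := by group
  nth_rewrite 1 [← h1]
  group

theorem t_comm_y : Commute t y := by
  have := h.ty
  rw [mul_assoc, mul_assoc, inv_mul_eq_one, eq_inv_mul_iff_mul_eq] at this
  exact this.symm

theorem ctc : x ^ 2 * t * x ^ 2 = t⁻¹ := by
  have h2 : x * t ^ 2 * x⁻¹ = t ^ 2 * t ^ 2 := by
    rw [sq, show x * (t * t) * x⁻¹ = (x * t * x⁻¹) * (x * t * x⁻¹) by group, h.xtx', sq]
  calc x ^ 2 * t * x ^ 2 = x * (x * t * x⁻¹) * x⁻¹ * (x ^ 2 * x ^ 2) := by simp [sq, mul_assoc]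
    _ = t ^ 2 * t ^ 2 := by rw [h.c_mul_c, mul_one, h.xtx', h2]
    _ = t ^ 5 * t⁻¹ := by group
    _ = t⁻¹ := by rw [h.t5, one_mul]

theorem ztz : z * t⁻¹ * z = t * z * t := by
  have h1 : z * t * z * t * (z * t) = 1 := by
    have := h.zt
    rw [pow_succ, sq] at this
    simpa only [mul_assoc] using this
  have h2 : t * z * t * z * t * z = 1 := by
    have : t * (z * t * z * t * (z * t)) * t⁻¹ = 1 := by rw [h1]; group
    rw [← this]; group
  have h3 : (t * z * t) * (z * t * z) = 1 := by rw [← h2]; group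
  rw [eq_inv_of_mul_eq_one_left h3, mul_inv_rev, mul_inv_rev, h.z_inv]
  group

/-- The twisted triple satisfies the relations of `⟨x, y, z⟩`. -/
theorem hrel_twist : Cfsg.Agent.Lib.HN3.HRel x y (z * x ^ 2) := by
  have cx := h.c_comm_x
  have cy := h.c_comm_y
  have cz := h.c_comm_z
  have hcc := h.c_mul_c
  refine ⟨h.hrel.r1, h.hrel.r2, h.hrel.r3, h.hrel.r4, h.hrel.r5, h.hrel.r6, ?_, ?_, ?_, ?_⟩
  · rw [sq, mul_assoc, ← mul_assoc (x ^ 2) z, cz.eq, mul_assoc z, hcc, mul_one, h.z_mul_z]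
  · have hc : Commute (x ^ 2) (z * x) := cz.mul_right cx
    rw [mul_assoc z, cx.eq, ← mul_assoc, ← hc.eq, hc.mul_pow, h.hrel.r8, mul_one, sq, hcc]
  · set u := y * x * y * x * (y ^ 2) * x * (y⁻¹) with hu
    have hc : Commute (x ^ 2) u :=
      ((((((cy.mul_right cx).mul_right cy).mul_right cx).mul_right (cy.pow_right 2)).mul_right cx).mul_right
        cy.inv_right)
    have e : (z * x ^ 2)⁻¹ * u⁻¹ * (z * x ^ 2) * u = z⁻¹ * u⁻¹ * z * u := by
      rw [mul_inv_rev, h.c_inv, mul_assoc _ (z * x ^ 2) u, mul_assoc z (x ^ 2) u, hc.eq]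
      calc x ^ 2 * z⁻¹ * u⁻¹ * (z * (u * x ^ 2)) = x ^ 2 * (z⁻¹ * u⁻¹ * z * u) * x ^ 2 := by group
        _ = (z⁻¹ * u⁻¹ * z * u) * (x ^ 2 * x ^ 2) := by
            rw [(((cz.inv_right.mul_right hc.inv_right).mul_right cz).mul_right hc).eq, mul_assoc]
        _ = _ := by rw [hcc, mul_one]
    rw [e]; exact h.hrel.r9
  · set w := (y ^ 3) * x * y * x * y with hw
    have hc : Commute (x ^ 2) w :=
      ((((cy.pow_right 3).mul_right cx).mul_right cy).mul_right cx).mul_right cy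
    have hwz : Commute (x ^ 2) (w⁻¹ * z * w * x) := ((hc.inv_right.mul_right cz).mul_right hc).mul_right cx
    have e : (w⁻¹ * (z * x ^ 2) * w) * x = x ^ 2 * (w⁻¹ * z * w * x) := by
      rw [hwz.eq]
      calc w⁻¹ * (z * x ^ 2) * w * x = w⁻¹ * z * (x ^ 2 * w) * x := by group
        _ = w⁻¹ * z * w * (x ^ 2 * x) := by rw [hc.eq]; group
        _ = _ := by rw [cx.eq]; group
    rw [e, hwz.mul_pow]
    calc z * x ^ 2 * ((x ^ 2) ^ 3 * (w⁻¹ * z * w * x) ^ 3)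
        = z * ((x ^ 2) * (x ^ 2) * ((x ^ 2) * (x ^ 2))) * (w⁻¹ * z * w * x) ^ 3 := by group
      _ = 1 := by rw [hcc, one_mul, mul_one]; exact h.hrel.r10

/-- `θ` preserves the relations. -/
theorem twist : Rel x y (z * x ^ 2) (t ^ 2) where
  hrel := h.hrel_twist
  x4 := h.x4
  t5 := by rw [← pow_mul, mul_comm, pow_mul, h.t5, one_pow]
  xt := by
    have e : x⁻¹ * t ^ 2 * x = (x⁻¹ * t * x) * (x⁻¹ * t * x) := by rw [sq]; group
    rw [e, h.xtx]; group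
  ty := by
    have := (h.t_comm_y.pow_left 2).eq
    rw [mul_assoc, mul_assoc, this]; group
  zt := by
    have h1 : (z * t⁻¹) ^ 3 = 1 := by
      calc (z * t⁻¹) ^ 3 = z * t⁻¹ * z * t⁻¹ * z * t⁻¹ := by rw [pow_succ, sq]; group
        _ = t * z * z * t⁻¹ := by rw [h.ztz]; group
        _ = 1 := by rw [mul_assoc t z z, h.z_mul_z, mul_one, mul_inv_cancel]
    have e : z * x ^ 2 * t ^ 2 = x⁻¹ * (z * t⁻¹) * x := by
      have hti : x⁻¹ * t⁻¹ * x = t ^ 2 := by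
        rw [show x⁻¹ * t⁻¹ * x = (x⁻¹ * t * x)⁻¹ by group, h.xtx, inv_inv]
      rw [← h.xzx, ← hti]; group
    rw [e, show x⁻¹ * (z * t⁻¹) * x = MulAut.conj x⁻¹ (z * t⁻¹) by simp [mul_assoc], ← map_pow, h1,
      map_one]

/-- `(z c t)³ ≠ 1`. -/
theorem zct_ne (ht : t ≠ 1) : (z * x ^ 2 * t) ^ 3 ≠ 1 := by
  intro h1
  have hct : x ^ 2 * t = t⁻¹ * x ^ 2 := by
    calc x ^ 2 * t = x ^ 2 * t * (x ^ 2 * x ^ 2) := by rw [h.c_mul_c, mul_one]
      _ = x ^ 2 * t * x ^ 2 * x ^ 2 := by rw [mul_assoc _ (x ^ 2) (x ^ 2)]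
      _ = t⁻¹ * x ^ 2 := by rw [h.ctc]
  have hmid : x ^ 2 * (z * t⁻¹) * x ^ 2 = z * t := by
    rw [← mul_assoc, h.c_comm_z.eq, mul_assoc z, mul_assoc z]
    congr 1
    calc x ^ 2 * t⁻¹ * x ^ 2 = x ^ 2 * (x ^ 2 * t * x ^ 2) * x ^ 2 := by rw [h.ctc]
      _ = (x ^ 2 * x ^ 2) * t * (x ^ 2 * x ^ 2) := by group
      _ = t := by rw [h.c_mul_c, one_mul, mul_one]
  have h2 : t * z * t * t * z * t⁻¹ * x ^ 2 = 1 := by
    rw [pow_succ, sq, mul_assoc z (x ^ 2) t, hct, ← mul_assoc z t⁻¹] at h1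
    calc t * z * t * t * z * t⁻¹ * x ^ 2
        = (t * z * t) * (t * z) * t⁻¹ * x ^ 2 := by group
      _ = (z * t⁻¹ * z) * (t * z) * t⁻¹ * x ^ 2 := by rw [h.ztz]
      _ = z * t⁻¹ * (z * t) * (z * t⁻¹ * x ^ 2) := by group
      _ = z * t⁻¹ * (x ^ 2 * (z * t⁻¹) * x ^ 2) * (z * t⁻¹ * x ^ 2) := by rw [hmid]
      _ = (z * t⁻¹ * x ^ 2) * (z * t⁻¹ * x ^ 2) * (z * t⁻¹ * x ^ 2) := by group
      _ = 1 := h1
  have h3 : z * t * t * z = t⁻¹ * (x ^ 2)⁻¹ * t := by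
    rw [← one_mul (t⁻¹ * (x ^ 2)⁻¹ * t)]
    calc z * t * t * z = t⁻¹ * (t * z * t * t * z * t⁻¹ * x ^ 2) * (x ^ 2)⁻¹ * t := by group
      _ = _ := by rw [h2]; group
  have h4 : (z * t * t * z) * (z * t * t * z) = 1 := by
    rw [h3, h.c_inv]
    calc t⁻¹ * x ^ 2 * t * (t⁻¹ * x ^ 2 * t) = t⁻¹ * (x ^ 2 * x ^ 2) * t := by group
      _ = 1 := by rw [h.c_mul_c, mul_one, inv_mul_cancel]
  have h5 : t ^ 4 = 1 := by
    have : z * t * t * (z * z) * t * t * z = 1 := by rw [← h4]; group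
    rw [h.z_mul_z, mul_one] at this
    calc t ^ 4 = z * (z * t * t * t * t * z) * z := by
          have e := h.z_mul_z
          simp only [← mul_assoc, e, one_mul]
          rw [mul_assoc (t * t * t * t) z z, e, mul_one, pow_succ, pow_succ, sq]
      _ = 1 := by rw [this, mul_one, h.z_mul_z]
  exact ht (by
    calc t = t ^ 5 * (t ^ 4)⁻¹ := by group
      _ = 1 := by rw [h.t5, h5, inv_one, mul_one])

/-- `(z t²)³ ≠ 1`. -/
theorem zt2_ne (ht : t ≠ 1) : (z * t ^ 2) ^ 3 ≠ 1 := by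
  intro h1
  refine h.zct_ne ht ?_
  have e : z * x ^ 2 * t = x⁻¹ * (z * t ^ 2) * x := by
    rw [← h.xzx, show x⁻¹ * (z * t ^ 2) * x = x⁻¹ * z * x * (x⁻¹ * t ^ 2 * x) by group]
    congr 1
    rw [← h.xtx']; group
  rw [e, show x⁻¹ * (z * t ^ 2) * x = MulAut.conj x⁻¹ (z * t ^ 2) by simp [mul_assoc], ← map_pow, h1,
    map_one]

end Rel

/-- A map to a group where all elements square to 1 and commute kills `x` and `y`. -/
theorem sign_xy {A : Type*} [CommGroup A] (hA : ∀ a : A, a * a = 1) {x y z : G}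
    (h : Cfsg.Agent.Lib.HN3.HRel x y z) (f : G →* A) : f x = 1 ∧ f y = 1 := by
  have h' := h.map f
  have e4 : ∀ a : A, a ^ 2 = 1 := fun a => by rw [sq]; exact hA a
  have e3 : ∀ a : A, a ^ 3 = a := fun a => by rw [pow_succ, e4, one_mul]
  refine ⟨?_, ?_⟩
  · have := h'.r10
    have hi : ∀ a : A, a⁻¹ = a := fun a => inv_eq_of_mul_eq_one_left (hA a)
    simp only [e3, hi] at this
    rw [show f z * (f y * f x * f y * f x * f y * f z * (f y * f x * f y * f x * f y) * f x) =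
      (f z * f z) * ((f y * f x * f y * f x * f y) * (f y * f x * f y * f x * f y)) * f x by
        simp only [mul_comm, mul_left_comm, mul_assoc], hA, hA, one_mul, one_mul] at this
    exact this
  · have := h'.r4
    have hi : ∀ a : A, a⁻¹ = a := fun a => inv_eq_of_mul_eq_one_left (hA a)
    simp only [e3, e4, hi, mul_one, ← mul_assoc, hA, one_mul] at this
    exact this

end Cfsg.Agent.Lib.HNOut25
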