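import Mathlib
import Cfsg.Prelude.Def_KGroupFacts
import Cfsg.Agent.Lib.HNOut25.Relations

/-!
# `|Out| = 2` from the local facts

An automorphism fixes the class of `c = x²` (the involutions centralising an element of order 11), so up to
an inner one it normalises `H = C(c) = ⟨x, y, z⟩`, where it is the identity or `z ↦ z c`; then it is inner
or inner times `θ`.
-/

set_option autoImplicit false

namespace Cfsg.Agent.Lib.HNOut25

open Subgroup

variable {G : Type*} [Group G]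

theorem hrel_of_injective {G' : Type*} [Group G'] (f : G →* G') (hf : Function.Injective f) {x y z : G}
    (h : Cfsg.Agent.Lib.HN3.HRel (f x) (f y) (f z)) : Cfsg.Agent.Lib.HN3.HRel x y z where
  r1 := hf (by simpa using h.r1)
  r2 := hf (by simpa using h.r2)
  r3 := hf (by simpa using h.r3)
  r4 := hf (by simpa using h.r4)
  r5 := hf (by simpa using h.r5)
  r6 := hf (by simpa using h.r6)
  r7 := hf (by simpa using h.r7)
  r8 := hf (by simpa using h.r8)
  r9 := hf (by simpa using h.r9)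
  r10 := hf (by simpa using h.r10)

/-- What is used about the group, the subgroup `H` and its index two subgroup `K₁`. -/
structure Data (x y z t : G) (θ : MulAut G) (H K₁ : Subgroup G) : Prop where
  rel : Rel x y z t
  gen : closure ({x, y, z, t} : Set G) = ⊤
  H_eq : H = closure ({x, y, z} : Set G)
  θx : θ x = x
  θy : θ y = y
  θz : θ z = z * x ^ 2
  θt : θ t = t ^ 2
  c_ne : x ^ 2 ≠ 1
  t_ne : t ≠ 1
  not121 : ¬ 11 ^ 2 ∣ Nat.card G
  exists11 : ∃ p ∈ H, orderOf p = 11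
  fix11 : ∀ p ∈ H, orderOf p = 11 → ∀ g : G, g⁻¹ * p * g ∈ H → g ∈ H
  invol11 : ∀ p ∈ H, orderOf p = 11 → ∀ u ∈ H, u * u = 1 → u ≠ 1 → Commute u p → u = x ^ 2
  centc : ∀ g : G, Commute g (x ^ 2) → g ∈ H
  fixK : ∀ g : G, g⁻¹ * y * g ∈ H → g⁻¹ * (x⁻¹ * y * x) * g ∈ H → ∃ j : ℕ, (t ^ j)⁻¹ * g ∈ H
  K₁_le : K₁ ≤ H
  K₁_norm : ∀ b ∈ H, ∀ a ∈ K₁, b * a * b⁻¹ ∈ K₁
  autH : ∀ α : MulAut G, (∀ a, a ∈ H ↔ α a ∈ H) →
    ∃ h ∈ H, ∀ a ∈ K₁, h * α a * h⁻¹ = a ∨ h * α a * h⁻¹ = a * x ^ 2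
  centH : ∀ h ∈ H, (∀ a ∈ K₁, h * a * h⁻¹ = a ∨ h * a * h⁻¹ = a * x ^ 2) → h = 1 ∨ h = x ^ 2

namespace Data

variable {x y z t : G} {θ : MulAut G} {H K₁ : Subgroup G} (D : Data x y z t θ H K₁)
include D

theorem mem_x : x ∈ H := D.H_eq ▸ subset_closure (by simp)
theorem mem_y : y ∈ H := D.H_eq ▸ subset_closure (by simp)
theorem mem_z : z ∈ H := D.H_eq ▸ subset_closure (by simp)
theorem mem_c : x ^ 2 ∈ H := pow_mem D.mem_x 2

theorem commute_c {a : G} (ha : a ∈ H) : Commute a (x ^ 2) := by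
  rw [D.H_eq] at ha
  refine Subgroup.closure_induction (p := fun a _ => Commute a (x ^ 2)) ?_ ?_ ?_ ?_ ha
  · intro a ha
    simp only [Set.mem_insert_iff, Set.mem_singleton_iff] at ha
    rcases ha with rfl | rfl | rfl
    exacts [D.rel.c_comm_x.symm, D.rel.c_comm_y.symm, D.rel.c_comm_z.symm]
  · exact Commute.one_left _
  · exact fun _ _ _ _ => Commute.mul_left
  · exact fun _ _ h => h.inv_left

theorem mem_iff {a : G} : a ∈ H ↔ Commute a (x ^ 2) := ⟨D.commute_c, D.centc a⟩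

/-- An element of order 11 in `H`, and its conjugates. -/
theorem exists_conj_mem [Finite G] {g : G} (hg : orderOf g = 11) : ∃ b : G, b * g * b⁻¹ ∈ H := by
  haveI : Fact (Nat.Prime 11) := ⟨by norm_num⟩
  obtain ⟨p, hp, hpo⟩ := D.exists11
  have hcard : ∀ a : G, orderOf a = 11 → Nat.card (zpowers a) = 11 ^ (Nat.card G).factorization 11 := by
    intro a ha
    rw [Nat.card_zpowers, ha]
    have h0 : Nat.card G ≠ 0 := Nat.card_pos.ne'
    have h1 : 11 ∣ Nat.card G := ha ▸ orderOf_dvd_natCard a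
    have h2 : (Nat.card G).factorization 11 = 1 := by
      refine le_antisymm ?_ ((Nat.Prime.factorization_pos_of_dvd (by norm_num) h0 h1))
      by_contra h
      exact D.not121 ((pow_dvd_pow 11 (by omega : 2 ≤ (Nat.card G).factorization 11)).trans
        (Nat.ordProj_dvd _ 11))
    rw [h2, pow_one]
  obtain ⟨b, hb⟩ := MulAction.exists_smul_eq G (Sylow.ofCard (p := 11) (zpowers g) (hcard g hg))
    (Sylow.ofCard (p := 11) (zpowers p) (hcard p hpo))
  refine ⟨b, ?_⟩
  have h1 : b * g * b⁻¹ ∈ ((b • Sylow.ofCard (p := 11) (zpowers g) (hcard g hg) : Sylow 11 G) : Subgroup G) :=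
    ⟨g, mem_zpowers g, rfl⟩
  rw [hb] at h1
  exact (zpowers_le.2 hp) h1

theorem exists_conj_c [Finite G] (α : MulAut G) : ∃ b : G, b * α (x ^ 2) * b⁻¹ = x ^ 2 := by
  obtain ⟨p, hp, hpo⟩ := D.exists11
  obtain ⟨b, hb⟩ := D.exists_conj_mem (g := α p) (by rw [MulEquiv.orderOf_eq, hpo])
  set β : MulAut G := MulAut.conj b * α with hβ
  refine ⟨b, ?_⟩
  change β (x ^ 2) = x ^ 2
  have hbp : β p ∈ H := hb
  have hbo : orderOf (β p) = 11 := by rw [MulEquiv.orderOf_eq, hpo]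
  have hcomm : Commute (β (x ^ 2)) (β p) := ((D.commute_c hp).symm).map β
  refine D.invol11 _ hbp hbo _ (D.fix11 _ hbp hbo _ ?_) ?_ ?_ hcomm
  · rw [mul_assoc, ← hcomm.eq, inv_mul_cancel_left]; exact hbp
  · rw [← map_mul, D.rel.c_mul_c, map_one]
  · exact fun e => D.c_ne (β.injective (e.trans (map_one β).symm))

theorem commute_t_conj : Commute t (x⁻¹ * y * x) := by
  have h1 : x⁻¹ * t ^ 2 * x = t := by rw [← D.rel.xtx']; group
  rw [← h1]
  have h2 := ((D.rel.t_comm_y.pow_left 2).map (MulAut.conj x⁻¹).toMonoidHom)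
  simpa [mul_assoc] using h2

/-- An automorphism fixing `x, y, z` is inner. -/
theorem inner_of_fix {β : MulAut G} (hx : β x = x) (hy : β y = y) (hz : β z = z) : β ∈ Cfsg.Inn G := by
  have hu : Commute (β t) y := by have := D.rel.t_comm_y.map β; rwa [hy] at this
  have hv : Commute (β t) (x⁻¹ * y * x) := by
    have := D.commute_t_conj.map β
    rwa [map_mul, map_mul, map_inv, hx, hy] at this
  obtain ⟨j, hj⟩ := D.fixK (β t)
    (by rw [mul_assoc, ← hu.eq, inv_mul_cancel_left]; exact D.mem_y)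
    (by rw [mul_assoc _ (x⁻¹ * y * x), ← hv.eq, inv_mul_cancel_left]
        exact mul_mem (mul_mem (inv_mem D.mem_x) D.mem_y) D.mem_x)
  set h := (t ^ j)⁻¹ * β t with hh
  have hbt : β t = t ^ j * h := by rw [hh]; group
  -- `c` inverts `t ^ j`, so `t ^ j` inverts `h`
  have hctj : x ^ 2 * t ^ j * x ^ 2 = (t ^ j)⁻¹ := by
    have e : (x ^ 2 * t * x ^ 2) = MulAut.conj (x ^ 2) t := by
      rw [MulAut.conj_apply, D.rel.c_inv]
    have e' : (x ^ 2 * t ^ j * x ^ 2) = MulAut.conj (x ^ 2) (t ^ j) := by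
      rw [MulAut.conj_apply, D.rel.c_inv]
    rw [e', map_pow, ← e, D.rel.ctc, inv_pow]
  have hflip : (t ^ j)⁻¹ * h * t ^ j = h⁻¹ := by
    have h1 : x ^ 2 * β t * x ^ 2 = (β t)⁻¹ := by
      have := congrArg β D.rel.ctc
      rwa [map_mul, map_mul, map_pow, hx, map_inv] at this
    have h2 : x ^ 2 * β t * x ^ 2 = (t ^ j)⁻¹ * h := by
      rw [hbt]
      calc x ^ 2 * (t ^ j * h) * x ^ 2 = x ^ 2 * t ^ j * (h * x ^ 2) := by group
        _ = x ^ 2 * t ^ j * x ^ 2 * h := by rw [(D.commute_c hj).eq]; group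
        _ = (t ^ j)⁻¹ * h := by rw [hctj]
    rw [h1, hbt, mul_inv_rev] at h2
    rw [← h2]; group
  have hflip5 : h = h⁻¹ := by
    set u := (t ^ j)⁻¹
    have hu : ∀ a : G, u * a * t ^ j = MulAut.conj u a := fun a => by rw [MulAut.conj_apply, inv_inv]
    have key : MulAut.conj u h = h⁻¹ := by rw [← hu]; exact hflip
    have key' : MulAut.conj u h⁻¹ = h := by rw [map_inv, key, inv_inv]
    have h5 : u ^ 5 = 1 := by rw [inv_pow, ← pow_mul, mul_comm, pow_mul, D.rel.t5, one_pow, inv_one]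
    calc h = MulAut.conj (u ^ 5) h := by rw [h5, map_one]; rfl
      _ = MulAut.conj u (MulAut.conj u (MulAut.conj u (MulAut.conj u (MulAut.conj u h)))) := by
          simp only [pow_succ, pow_zero, one_mul, map_mul, MulAut.mul_apply]
      _ = h⁻¹ := by rw [key, key', key, key', key]
  have hcom : Commute h (t ^ j) := by
    show h * t ^ j = t ^ j * h
    nth_rewrite 2 [hflip5]
    rw [← hflip]; group
  have hh2 : h * h = 1 := by nth_rewrite 1 [hflip5]; exact inv_mul_cancel h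
  have h1 : h = 1 := by
    have hxb : x * β t * x⁻¹ = β t * β t := by
      have := congrArg β D.rel.xtx'
      rwa [map_mul, map_mul, map_inv, hx, sq, map_mul] at this
    rw [hbt, show t ^ j * h * (t ^ j * h) = t ^ j * (h * t ^ j) * h by group, hcom.eq,
      show t ^ j * (t ^ j * h) * h = t ^ j * t ^ j * (h * h) by group, hh2, mul_one] at hxb
    have e : x * (t ^ j * h) * x⁻¹ = t ^ j * t ^ j * (x * h * x⁻¹) := by
      rw [show x * (t ^ j * h) * x⁻¹ = (x * t ^ j * x⁻¹) * (x * h * x⁻¹) by group]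
      congr 1
      rw [show x * t ^ j * x⁻¹ = MulAut.conj x (t ^ j) by simp, map_pow, MulAut.conj_apply,
        D.rel.xtx', ← pow_mul, ← pow_add, two_mul]
    rw [e, mul_eq_left] at hxb
    exact conj_eq_one_iff.1 hxb
  rw [h1, mul_one] at hbt
  have hmod : β t = t ^ (j % 5) := by
    rw [hbt]
    conv_lhs => rw [← Nat.mod_add_div j 5, pow_add, pow_mul, D.rel.t5, one_pow, mul_one]
  have hzt : (z * β t) ^ 3 = 1 := by
    have := congrArg β D.rel.zt
    rwa [map_pow, map_mul, hz, map_one] at this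
  have hconj : ∀ {γ : MulAut G} (g : G), γ x = g * x * g⁻¹ → γ y = g * y * g⁻¹ → γ z = g * z * g⁻¹ →
      γ t = g * t * g⁻¹ → γ ∈ Cfsg.Inn G := by
    intro γ g e1 e2 e3 e4
    refine ⟨g, ?_⟩
    have h' : (MulAut.conj g : MulAut G).toMonoidHom = γ.toMonoidHom := by
      refine MonoidHom.eq_of_eqOn_dense D.gen ?_
      intro a ha
      simp only [Set.mem_insert_iff, Set.mem_singleton_iff] at ha
      rcases ha with rfl | rfl | rfl | rfl <;> simp [e1, e2, e3, e4]
    exact MulEquiv.ext fun a => DFunLike.congr_fun h' a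
  have hc : ∀ a ∈ H, x ^ 2 * a * (x ^ 2)⁻¹ = a := fun a ha => by
    rw [← (D.commute_c ha).eq, mul_inv_cancel_right]
  have hlt : j % 5 < 5 := Nat.mod_lt _ (by norm_num)
  generalize j % 5 = i at hmod hlt
  rw [hmod] at hzt
  interval_cases i
  · exact absurd (β.injective ((hmod.trans (pow_zero t)).trans (map_one β).symm)) D.t_ne
  · exact hconj 1 (by simp [hx]) (by simp [hy]) (by simp [hz]) (by simp [hmod])
  · exact absurd hzt (D.rel.zt2_ne D.t_ne)
  · refine absurd ?_ (D.rel.zt2_ne D.t_ne)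
    have e : x ^ 2 * (z * t ^ 3) * (x ^ 2)⁻¹ = z * t ^ 2 := by
      calc x ^ 2 * (z * t ^ 3) * (x ^ 2)⁻¹ = (x ^ 2 * z * (x ^ 2)⁻¹) * (x ^ 2 * t * (x ^ 2)⁻¹) ^ 3 := by
            have e0 : ∀ g a b : G, g * (a * b ^ 3) * g⁻¹ = (g * a * g⁻¹) * (g * b * g⁻¹) ^ 3 :=
              fun g a b => by simp only [pow_succ, pow_zero, one_mul]; group
            exact e0 _ _ _
        _ = z * (t⁻¹) ^ 3 * t ^ 5 := by rw [hc z D.mem_z, D.rel.c_inv, D.rel.ctc, D.rel.t5, mul_one]
        _ = z * t ^ 2 := by group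
    rw [← e, show x ^ 2 * (z * t ^ 3) * (x ^ 2)⁻¹ = MulAut.conj (x ^ 2) (z * t ^ 3) from rfl, ← map_pow,
      hzt, map_one]
  · refine hconj (x ^ 2) ?_ ?_ ?_ ?_
    · rw [hx, hc x D.mem_x]
    · rw [hy, hc y D.mem_y]
    · rw [hz, hc z D.mem_z]
    · rw [hmod, D.rel.c_inv, D.rel.ctc]
      exact eq_inv_of_mul_eq_one_left (by rw [← pow_succ, D.rel.t5])

set_option maxHeartbeats 800000 in
/-- Up to an inner automorphism, every automorphism is trivial or `θ`. -/
theorem mem_inn_or [Finite G] (α : MulAut G) : α ∈ Cfsg.Inn G ∨ α * θ ∈ Cfsg.Inn G := by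
  obtain ⟨b, hb⟩ := D.exists_conj_c α
  set α₁ : MulAut G := MulAut.conj b * α with hα₁
  have hc1 : α₁ (x ^ 2) = x ^ 2 := hb
  have hH : ∀ a, a ∈ H ↔ α₁ a ∈ H := fun a => by
    rw [D.mem_iff, D.mem_iff]
    constructor
    · intro h; have := h.map α₁; rwa [hc1] at this
    · intro h
      refine α₁.injective ?_
      rw [map_mul, map_mul, hc1]; exact h.eq
  obtain ⟨h, hh, hK⟩ := D.autH α₁ hH
  set β : MulAut G := MulAut.conj h * α₁ with hβ
  have hβK : ∀ a ∈ K₁, β a = a ∨ β a = a * x ^ 2 := hK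
  have hcc := D.rel.c_mul_c
  have hβH : ∀ a ∈ H, β a ∈ H := fun a ha => mul_mem (mul_mem hh ((hH a).1 ha)) (inv_mem hh)
  have hdiff : ∀ a ∈ H, β a = a ∨ β a = a * x ^ 2 := by
    intro a ha
    suffices hkey : ∀ k ∈ K₁, a⁻¹ * β a * k * (a⁻¹ * β a)⁻¹ = k ∨ a⁻¹ * β a * k * (a⁻¹ * β a)⁻¹ = k * x ^ 2 by
      rcases D.centH (a⁻¹ * β a) (mul_mem (inv_mem ha) (hβH a ha)) hkey with e | e
      · exact Or.inl (inv_mul_eq_one.1 e).symm
      · exact Or.inr (inv_mul_eq_iff_eq_mul.1 e)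
    intro k hk
    -- conjugation by `a` commutes with `β` up to `c`
    have hk' := D.K₁_norm a ha k hk
    have hck : ∀ e : G, a⁻¹ * β a * k * (a⁻¹ * β a)⁻¹ = e ↔ β a * k * (β a)⁻¹ = a * e * a⁻¹ := fun e => by
      constructor
      · intro he; rw [← he]; group
      · intro he
        calc a⁻¹ * β a * k * (a⁻¹ * β a)⁻¹ = a⁻¹ * (β a * k * (β a)⁻¹) * a := by group
          _ = e := by rw [he]; group
    have hbk : β a * β k * (β a)⁻¹ = β (a * k * a⁻¹) := by rw [map_mul, map_mul, map_inv]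
    have hac : a * (k * x ^ 2) * a⁻¹ = a * k * a⁻¹ * x ^ 2 := by
      have := ((D.commute_c ha).inv_left).eq
      rw [mul_assoc, mul_assoc, mul_assoc, mul_assoc, ← this]
    have hbc : ∀ e : G, β a * (e * x ^ 2) * (β a)⁻¹ = β a * e * (β a)⁻¹ * x ^ 2 := fun e => by
      have := ((D.commute_c (hβH a ha)).inv_left).eq
      rw [mul_assoc, mul_assoc, mul_assoc, mul_assoc, ← this]
    rcases hβK k hk with e1 | e1 <;> rcases hβK _ hk' with e2 | e2 <;> rw [← hbk, e1] at e2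
    · exact Or.inl ((hck k).2 e2)
    · exact Or.inr ((hck _).2 (e2.trans hac.symm))
    · refine Or.inr ((hck _).2 ?_)
      rw [hac]
      rw [hbc] at e2
      conv_rhs => rw [← e2]
      rw [mul_assoc _ (x ^ 2) (x ^ 2), hcc, mul_one]
    · refine Or.inl ((hck _).2 ?_)
      rw [hbc] at e2
      exact mul_right_cancel e2
  classical
  have hmul : ∀ a ∈ H, ∀ a' ∈ H,
      (β (a * a') = a * a' ↔ (β a = a ↔ β a' = a')) := by
    intro a ha a' ha'
    have hne : ∀ e : G, e * x ^ 2 ≠ e := fun e he => D.c_ne (mul_eq_left.1 he)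
    have hca : x ^ 2 * a' = a' * x ^ 2 := (D.commute_c ha').eq.symm
    rcases hdiff a ha with e | e <;> rcases hdiff a' ha' with e' | e' <;> rw [map_mul, e, e']
    · simp
    · rw [← mul_assoc]; simp [hne]
    · rw [mul_assoc, hca, ← mul_assoc]; simp [hne]
    · rw [mul_assoc a, ← mul_assoc (x ^ 2) a', hca, mul_assoc a' (x ^ 2), hcc, mul_one]; simp [hne]
  let d : ↥H →* Multiplicative (ZMod 2) := MonoidHom.mk'
    (fun a => if β (a : G) = a then 1 else Multiplicative.ofAdd 1) (fun a a' => by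
      have := hmul a a.2 a' a'.2
      simp only [Subgroup.coe_mul, this]
      by_cases h1 : β (a : G) = a <;> by_cases h2 : β (a' : G) = a' <;> simp [h1, h2] <;> decide)
  have hd : ∀ a : ↥H, d a = 1 → β (a : G) = a := fun a ha => by
    by_contra h
    simp [d, h] at ha
  obtain ⟨h1, h2⟩ := sign_xy (A := Multiplicative (ZMod 2)) (by decide)
    (hrel_of_injective H.subtype Subtype.val_injective (x := ⟨x, D.mem_x⟩) (y := ⟨y, D.mem_y⟩)
      (z := ⟨z, D.mem_z⟩) D.rel.hrel) d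
  have hx : β x = x := hd _ h1
  have hy : β y = y := hd _ h2
  have hαβ : ∀ γ : MulAut G, β * γ ∈ Cfsg.Inn G → α * γ ∈ Cfsg.Inn G := fun γ hγ => by
    have hm : ∀ g : G, (MulAut.conj g : MulAut G) ∈ Cfsg.Inn G := fun g => ⟨g, rfl⟩
    have := Subgroup.mul_mem _ (Subgroup.inv_mem _ (Subgroup.mul_mem _ (hm h) (hm b))) hγ
    rwa [hβ, hα₁, show (MulAut.conj h * MulAut.conj b)⁻¹ * (MulAut.conj h * (MulAut.conj b * α) * γ) =
      α * γ by group] at this
  rcases hdiff z D.mem_z with hz | hz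
  · exact Or.inl (by simpa using hαβ 1 (by simpa using D.inner_of_fix hx hy hz))
  · refine Or.inr (hαβ θ (D.inner_of_fix ?_ ?_ ?_))
    · rw [MulAut.mul_apply, D.θx, hx]
    · rw [MulAut.mul_apply, D.θy, hy]
    · rw [MulAut.mul_apply, D.θz, map_mul, hz, map_pow, hx, mul_assoc, hcc, mul_one]

/-- `θ` is not inner. -/
theorem θ_not_inn : θ ∉ Cfsg.Inn G := by
  rintro ⟨g, hg⟩
  have e : ∀ a, θ a = g * a * g⁻¹ := fun a => by rw [← hg]; rfl
  have hcomm : Commute g (x ^ 2) := by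
    have := e (x ^ 2)
    rw [map_pow, D.θx] at this
    exact (eq_mul_inv_iff_mul_eq.1 this).symm
  have hcc := D.rel.c_mul_c
  have hP : ∀ a ∈ H, g * a * g⁻¹ = a ∨ g * a * g⁻¹ = a * x ^ 2 := by
    intro a ha
    rw [D.H_eq] at ha
    refine Subgroup.closure_induction
      (p := fun a _ => g * a * g⁻¹ = a ∨ g * a * g⁻¹ = a * x ^ 2) ?_ ?_ ?_ ?_ ha
    · intro a ha
      simp only [Set.mem_insert_iff, Set.mem_singleton_iff] at ha
      rcases ha with rfl | rfl | rfl
      · exact Or.inl (by rw [← e, D.θx])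
      · exact Or.inl (by rw [← e, D.θy])
      · exact Or.inr (by rw [← e, D.θz])
    · exact Or.inl (by group)
    · intro a b ha hb pa pb
      have hm : ∀ {e}, e ∈ closure ({x, y, z} : Set G) → Commute e (x ^ 2) := fun h =>
        D.commute_c (D.H_eq ▸ h)
      rw [show g * (a * b) * g⁻¹ = (g * a * g⁻¹) * (g * b * g⁻¹) by group]
      rcases pa with pa | pa <;> rcases pb with pb | pb <;> rw [pa, pb]
      · exact Or.inl rfl
      · exact Or.inr (mul_assoc a b _).symm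
      · exact Or.inr (by rw [mul_assoc a, ← (hm hb).eq, ← mul_assoc])
      · exact Or.inl (by rw [mul_assoc a, ← mul_assoc _ b, ← (hm hb).eq, mul_assoc b, hcc, mul_one])
    · intro a ha pa
      rw [show g * a⁻¹ * g⁻¹ = (g * a * g⁻¹)⁻¹ by group]
      rcases pa with pa | pa <;> rw [pa]
      · exact Or.inl rfl
      · exact Or.inr (by
          rw [mul_inv_rev, D.rel.c_inv, ((D.commute_c (D.H_eq ▸ ha)).inv_left).eq])
  rcases D.centH g (D.centc g hcomm) (fun a ha => hP a (D.K₁_le ha)) with rfl | rfl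
  · have h' := (e z).symm.trans D.θz
    rw [one_mul, inv_one, mul_one] at h'
    exact D.c_ne (left_eq_mul.1 h')
  · refine D.c_ne ((left_eq_mul (a := z)).1 ?_)
    rw [← D.θz, e, ← (D.commute_c D.mem_z).eq, mul_inv_cancel_right]

theorem card_out [Finite G] : Nat.card (Cfsg.Out G) = 2 := by
  rw [← Subgroup.index_eq_card, Subgroup.index_eq_two_iff]
  refine ⟨θ, fun α => ?_⟩
  rcases D.mem_inn_or α with h | h
  · refine Or.inr ⟨h, fun h' => D.θ_not_inn ?_⟩
    have := Subgroup.mul_mem _ (Subgroup.inv_mem _ h) h'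
    rwa [inv_mul_cancel_left] at this
  · refine Or.inl ⟨h, fun h' => D.θ_not_inn ?_⟩
    have := Subgroup.mul_mem _ (Subgroup.inv_mem _ h') h
    rwa [inv_mul_cancel_left] at this

end Data

end Cfsg.Agent.Lib.HNOut25
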