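import Mathlib
import Cfsg.Agent.Lib.HNOut25.Upper
import Cfsg.Agent.Lib.HNOut25.HLevel

/-!
# The local facts from the order, the suborbits and the double cover

`G` has the fourteen relations, `⟨x, y, z⟩` is the image of the group of degree 1408, the suborbits of it on
its cosets have the nine known sizes, and it has a double cover of a simple `S` with `|Out S| = 2` inside.
-/

set_option autoImplicit false

namespace Cfsg.Agent.Lib.HNOut25

open Cfsg.Agent.Lib.HN3

/-- the suborbit sizes of `2.HS:2` -/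
def sizes : Fin 9 → ℕ := ![1, 1408, 2200, 5775, 35200, 123200, 277200, 354816, 739200]

theorem sizes_facts : ∀ i : Fin 9, (sizes i = 1 → i = 0) ∧ (sizes i ∣ 1408 → i = 0 ∨ i = 1) ∧
    (i = 0 ∨ 11 ∣ sizes i) := by decide +kernel

theorem sizes_sums : ∀ S : Finset (Fin 9), 0 ∈ S → (∑ i ∈ S, sizes i) ∣ 1539000 →
    S = {0} ∨ S = Finset.univ := by decide +kernel

variable {G : Type} [Group G]

/-- The suborbits of `H` on its cosets have the sizes `sizes`. -/
def Suborbits (H : Subgroup G) : Prop :=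
  ∃ lab : G ⧸ H → Fin 9, (∀ a ∈ H, ∀ q, lab (a • q) = lab q) ∧
    (∀ q q', lab q = lab q' → ∃ a ∈ H, a • q = q') ∧ ∀ i, Nat.card {q // lab q = i} = sizes i

/-- What is used about the group. -/
structure Facts (x y z t : G) (ψ : Hbar →* G) : Prop where
  rel : Rel x y z t
  gen : Subgroup.closure ({x, y, z, t} : Set G) = ⊤
  bound : HBound
  inj : Function.Injective ψ
  ψx : ψ (rep.f 0) = x
  ψy : ψ (rep.f 2) = y
  ψz : ψ (rep.f 4) = z
  card : Nat.card G = 1539000 * 177408000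
  t_ne : t ≠ 1
  sub : Suborbits ψ.range

namespace Facts

variable {x y z t : G} {ψ : Hbar →* G} (F : Facts x y z t ψ)
include F

theorem finite : Finite G := Nat.finite_of_card_ne_zero (by rw [F.card]; norm_num)

theorem range_eq : ψ.range = Subgroup.closure ({x, y, z} : Set G) := by
  have e : ψ '' {rep.f 0, rep.f 2, rep.f 4} = {x, y, z} := by
    simp [Set.image_insert_eq, F.ψx, F.ψy, F.ψz]
  have htop : Subgroup.closure ({rep.f 0, rep.f 2, rep.f 4} : Set Hbar) = ⊤ := by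
    refine Subgroup.map_injective (Subgroup.subtype_injective Hbar) ?_
    rw [MonoidHom.map_closure, ← MonoidHom.range_eq_map, Subgroup.range_subtype]
    simp only [Set.image_insert_eq, Set.image_singleton]
    rfl
  rw [MonoidHom.range_eq_map, ← htop, MonoidHom.map_closure, e]

theorem card_range : Nat.card ψ.range = 177408000 := by
  rw [← Nat.card_congr (MonoidHom.ofInjective F.inj).toEquiv, card_Hbar F.bound]

theorem ψc : ψ (Xb ^ 2) = x ^ 2 := by rw [map_pow, Xb, F.ψx]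

theorem ψA : ψ Ab = x⁻¹ * y * x := by rw [Ab, Xb, Yb, map_mul, map_mul, map_inv, F.ψx, F.ψy]

theorem not121 : ¬ 11 ^ 2 ∣ Nat.card G := by rw [F.card]; norm_num

theorem c_ne : x ^ 2 ≠ 1 := by
  rw [← F.ψc]
  exact fun e => c_ne_one (F.inj (e.trans (map_one ψ).symm))

theorem exists11 : ∃ p ∈ ψ.range, orderOf p = 11 :=
  ⟨ψ Pb, ⟨Pb, rfl⟩, by rw [orderOf_injective ψ F.inj, orderOf_Pb]⟩

theorem card_stab (q : G ⧸ ψ.range) {lab : G ⧸ ψ.range → Fin 9}
    (h1 : ∀ a ∈ ψ.range, ∀ q, lab (a • q) = lab q) (h2 : ∀ q q', lab q = lab q' → ∃ a ∈ ψ.range, a • q = q')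
    (h3 : ∀ i, Nat.card {q // lab q = i} = sizes i) :
    Nat.card (MulAction.stabilizer ψ.range q) * sizes (lab q) = 177408000 := by
  have e : MulAction.orbit ψ.range q = {q' | lab q' = lab q} := by
    ext q'
    constructor
    · rintro ⟨a, rfl⟩; exact h1 a a.2 q
    · intro h
      obtain ⟨a, ha, rfl⟩ := h2 q q' h.symm
      exact ⟨⟨a, ha⟩, rfl⟩
  have h := (MulAction.stabilizer ψ.range q).card_mul_index
  rw [MulAction.index_stabilizer, F.card_range, ← Nat.card_coe_set_eq, e] at h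
  rw [← h3 (lab q)]; exact h

theorem mem_of_lab {lab : G ⧸ ψ.range → Fin 9} (h1 : ∀ a ∈ ψ.range, ∀ q, lab (a • q) = lab q)
    (h2 : ∀ q q', lab q = lab q' → ∃ a ∈ ψ.range, a • q = q')
    (h3 : ∀ i, Nat.card {q // lab q = i} = sizes i) :
    lab ((1 : G) : G ⧸ ψ.range) = 0 ∧ ∀ g : G, lab (g : G ⧸ ψ.range) = 0 → g ∈ ψ.range := by
  have hst : MulAction.stabilizer ψ.range ((1 : G) : G ⧸ ψ.range) = ⊤ := by
    refine eq_top_iff.2 fun a _ => ?_
    show ((a : G) * 1 : G) = ((1 : G) : G ⧸ ψ.range)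
    rw [QuotientGroup.eq]
    simp
  have h := F.card_stab ((1 : G) : G ⧸ ψ.range) h1 h2 h3
  rw [hst, Subgroup.card_top, F.card_range] at h
  have h0 := (sizes_facts _).1 (by
    exact Nat.eq_of_mul_eq_mul_left (by norm_num : 0 < 177408000) (h.trans (mul_one _).symm))
  refine ⟨h0, fun g hg => ?_⟩
  obtain ⟨a, ha, e⟩ := h2 _ _ (h0.trans hg.symm)
  have e' : ((a * 1 : G) : G ⧸ ψ.range) = (g : G ⧸ ψ.range) := e
  rw [QuotientGroup.eq, mul_one] at e'
  simpa using mul_mem ha e'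

theorem fix11 : ∀ p ∈ ψ.range, orderOf p = 11 → ∀ g : G, g⁻¹ * p * g ∈ ψ.range → g ∈ ψ.range := by
  intro p hp hpo g hg
  obtain ⟨lab, h1, h2, h3⟩ := F.sub
  refine (F.mem_of_lab h1 h2 h3).2 g ?_
  have hps : (⟨p, hp⟩ : ψ.range) ∈ MulAction.stabilizer ψ.range (g : G ⧸ ψ.range) := by
    show ((p * g : G) : G ⧸ ψ.range) = (g : G ⧸ ψ.range)
    rw [QuotientGroup.eq]
    have := inv_mem hg
    simpa [mul_assoc] using this
  have h11 : 11 ∣ Nat.card (MulAction.stabilizer ψ.range (g : G ⧸ ψ.range)) := by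
    have e : orderOf (⟨p, hp⟩ : ψ.range) = 11 := by rw [← Subgroup.orderOf_coe]; exact hpo
    rw [← e]
    exact Subgroup.orderOf_dvd_natCard _ hps
  rcases (sizes_facts (lab (g : G ⧸ ψ.range))).2.2 with h | h
  · exact h
  · have h' := Nat.mul_dvd_mul h11 h
    rw [F.card_stab _ h1 h2 h3] at h'
    norm_num at h'

theorem invol11 : ∀ p ∈ ψ.range, orderOf p = 11 → ∀ u ∈ ψ.range, u * u = 1 → u ≠ 1 → Commute u p →
    u = x ^ 2 := by
  rintro _ ⟨p, rfl⟩ hpo _ ⟨u, rfl⟩ h2 h1 hc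
  haveI : Fact (Nat.Prime 11) := ⟨by norm_num⟩
  haveI := F.finite
  rw [orderOf_injective ψ F.inj] at hpo
  have hc' : Commute u p := F.inj (by rw [map_mul, map_mul]; exact hc.eq)
  have hcard : ∀ a : Hbar, orderOf a = 11 →
      Nat.card (Subgroup.zpowers a) = 11 ^ (Nat.card Hbar).factorization 11 := by
    intro a ha
    have h0 : Nat.card Hbar ≠ 0 := Nat.card_pos.ne'
    have hd : 11 ∣ Nat.card Hbar := ha ▸ orderOf_dvd_natCard a
    have hf : (Nat.card Hbar).factorization 11 = 1 := by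
      refine le_antisymm ?_ ((Nat.Prime.factorization_pos_of_dvd (by norm_num) h0 hd))
      by_contra h
      have := (pow_dvd_pow 11 (by omega : 2 ≤ (Nat.card Hbar).factorization 11)).trans
        (Nat.ordProj_dvd _ 11)
      rw [card_Hbar F.bound] at this
      norm_num at this
    rw [Nat.card_zpowers, ha, hf, pow_one]
  obtain ⟨b, hb⟩ := MulAction.exists_smul_eq Hbar (Sylow.ofCard (p := 11) (Subgroup.zpowers p) (hcard p hpo))
    (Sylow.ofCard (p := 11) (Subgroup.zpowers Pb) (hcard Pb orderOf_Pb))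
  have hbp : b * p * b⁻¹ ∈ ((b • Sylow.ofCard (p := 11) (Subgroup.zpowers p) (hcard p hpo) : Sylow 11 Hbar) :
      Subgroup Hbar) := ⟨p, Subgroup.mem_zpowers p, rfl⟩
  rw [hb] at hbp
  have hmem : b * p * b⁻¹ ∈ Subgroup.zpowers Pb := hbp
  have hgen : Subgroup.zpowers (b * p * b⁻¹) = Subgroup.zpowers Pb :=
    Subgroup.eq_of_le_of_card_ge (Subgroup.zpowers_le.2 hmem) (by
      rw [Nat.card_zpowers, Nat.card_zpowers, orderOf_Pb, ← MulAut.conj_apply, MulEquiv.orderOf_eq, hpo])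
  obtain ⟨k, hk⟩ := Subgroup.mem_zpowers_iff.1 (hgen ▸ Subgroup.mem_zpowers Pb : Pb ∈ Subgroup.zpowers (b * p * b⁻¹))
  have hcb : Commute (b * u * b⁻¹) (b * p * b⁻¹) := by
    simpa [MulAut.conj_apply] using hc'.map (MulAut.conj b).toMonoidHom
  have hu : b * u * b⁻¹ = Xb ^ 2 := by
    refine invol_P F.bound (hk ▸ hcb.zpow_right k) ?_ ?_
    · rw [show b * u * b⁻¹ * (b * u * b⁻¹) = b * (u * u) * b⁻¹ by group,
        show u * u = 1 from F.inj (by rw [map_mul, map_one]; exact h2), mul_one, mul_inv_cancel]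
    · intro e
      rw [conj_eq_one_iff] at e
      exact h1 (by rw [e, map_one])
  have hcen : Commute b (Xb ^ 2) := F.inj (by
    rw [map_mul, map_mul, F.ψc]
    have hb' : ψ b ∈ Subgroup.closure ({x, y, z} : Set G) := F.range_eq ▸ ⟨b, rfl⟩
    have hle : Subgroup.closure ({x, y, z} : Set G) ≤ Subgroup.centralizer {x ^ 2} := by
      rw [Subgroup.closure_le]
      rintro g (rfl | rfl | rfl) <;> simp only [SetLike.mem_coe, Subgroup.mem_centralizer_singleton_iff]
      exacts [F.rel.c_comm_x.eq.symm, F.rel.c_comm_y.eq.symm, F.rel.c_comm_z.eq.symm]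
    exact Subgroup.mem_centralizer_singleton_iff.1 (hle hb'))
  rw [← F.ψc]
  congr 1
  calc u = b⁻¹ * (b * u * b⁻¹) * b := by group
    _ = b⁻¹ * (Xb ^ 2 * b) := by rw [hu, mul_assoc]
    _ = Xb ^ 2 := by rw [← hcen.eq, inv_mul_cancel_left]

theorem centc : ∀ g : G, Commute g (x ^ 2) → g ∈ ψ.range := by
  classical
  haveI := F.finite
  haveI : Fintype (G ⧸ ψ.range) := Fintype.ofFinite _
  intro g hg
  obtain ⟨lab, h1, h2, h3⟩ := F.sub
  obtain ⟨h0, hmem⟩ := F.mem_of_lab h1 h2 h3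
  set C : Subgroup G := Subgroup.centralizer {x ^ 2} with hC
  have hle : ψ.range ≤ C := by
    rw [F.range_eq, Subgroup.closure_le]
    rintro a (rfl | rfl | rfl) <;> simp only [hC, SetLike.mem_coe, Subgroup.mem_centralizer_singleton_iff]
    exacts [F.rel.c_comm_x.eq.symm, F.rel.c_comm_y.eq.symm, F.rel.c_comm_z.eq.symm]
  let S : Finset (Fin 9) := Finset.univ.filter fun i => ∃ a : G, a ∈ C ∧ lab (a : G ⧸ ψ.range) = i
  have hsat : ∀ a : G, a ∈ C ↔ lab (a : G ⧸ ψ.range) ∈ S := by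
    intro a
    refine ⟨fun ha => Finset.mem_filter.2 ⟨Finset.mem_univ _, a, ha, rfl⟩, fun ha => ?_⟩
    obtain ⟨a', ha', e⟩ := (Finset.mem_filter.1 ha).2
    obtain ⟨b, hb, e'⟩ := h2 _ _ e
    have e'' : ((b * a' : G) : G ⧸ ψ.range) = (a : G ⧸ ψ.range) := e'
    rw [QuotientGroup.eq] at e''
    have := mul_mem (mul_mem (hle hb) ha') (hle e'')
    rwa [mul_inv_cancel_left] at this
  have hpre : Nat.card C = 177408000 * ∑ i ∈ S, sizes i := by
    have e := QuotientGroup.preimageMkEquivSubgroupProdSet ψ.range {q | lab q ∈ S}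
    have e1 : (C : Set G) = QuotientGroup.mk ⁻¹' {q | lab q ∈ S} := Set.ext hsat
    rw [show Nat.card C = Nat.card ((C : Set G) : Type) from rfl, e1, Nat.card_congr e, Nat.card_prod,
      F.card_range]
    congr 1
    rw [Nat.card_eq_fintype_card, Fintype.card_subtype]
    simp only [Set.mem_setOf_eq]
    rw [Finset.card_eq_sum_card_fiberwise (s := Finset.univ.filter fun q => lab q ∈ S) (f := lab) (t := S)
      (fun q hq => (Finset.mem_filter.1 hq).2)]
    refine Finset.sum_congr rfl fun i hi => ?_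
    rw [← h3 i, Nat.card_eq_fintype_card, Fintype.card_subtype]
    congr 1
    ext q
    simp only [Finset.mem_filter, Finset.mem_univ, true_and, Set.mem_setOf_eq, and_iff_right_iff_imp]
    exact fun h => h ▸ hi
  have hdvd := C.card_subgroup_dvd_card
  rw [hpre, F.card, mul_comm 1539000] at hdvd
  have hS := sizes_sums S ?_ (Nat.dvd_of_mul_dvd_mul_left (by norm_num) hdvd)
  · rcases hS with hS | hS
    · refine hmem g ?_
      have := (hsat g).1 (by rw [hC, Subgroup.mem_centralizer_singleton_iff]; exact hg.eq)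
      rwa [hS, Finset.mem_singleton] at this
    · exfalso
      have ht : t ∈ C := (hsat t).2 (by rw [hS]; exact Finset.mem_univ _)
      rw [hC, Subgroup.mem_centralizer_singleton_iff] at ht
      have e1 : t = t⁻¹ := by
        rw [← F.rel.ctc, mul_assoc, ht, ← mul_assoc, F.rel.c_mul_c, one_mul]
      apply F.t_ne
      have e2 : t * t = 1 := by nth_rewrite 2 [e1]; exact mul_inv_cancel t
      calc t = t ^ 5 := by rw [pow_succ, pow_succ, pow_succ, sq, e2, one_mul, e2, one_mul]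
        _ = 1 := F.rel.t5
  · rw [← h0]; exact (hsat 1).1 (one_mem C)

theorem fixK : ∀ g : G, g⁻¹ * y * g ∈ ψ.range → g⁻¹ * (x⁻¹ * y * x) * g ∈ ψ.range →
    ∃ j : ℕ, (t ^ j)⁻¹ * g ∈ ψ.range := by
  haveI := F.finite
  obtain ⟨lab, h1, h2, h3⟩ := F.sub
  obtain ⟨h0, hmem⟩ := F.mem_of_lab h1 h2 h3
  have hfix : ∀ g : G, g⁻¹ * y * g ∈ ψ.range → g⁻¹ * (x⁻¹ * y * x) * g ∈ ψ.range → ∀ k ∈ Kb,
      ψ k • (g : G ⧸ ψ.range) = (g : G ⧸ ψ.range) := by
    intro g hy ha k hk
    refine Subgroup.closure_induction (p := fun k _ => ψ k • (g : G ⧸ ψ.range) = (g : G ⧸ ψ.range))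
      ?_ ?_ ?_ ?_ hk
    · rintro k (rfl | rfl) <;> (show ((ψ _ * g : G) : G ⧸ ψ.range) = (g : G ⧸ ψ.range)) <;>
        rw [QuotientGroup.eq]
      · have := inv_mem hy
        simpa [Yb, F.ψy, mul_assoc] using this
      · have := inv_mem ha
        simpa [F.ψA, mul_assoc] using this
    · rw [map_one, one_smul]
    · intro a b _ _ ha hb; rw [map_mul, mul_smul, hb, ha]
    · intro a _ ha; rw [map_inv, inv_smul_eq_iff, ha]
  have hlab : ∀ g : G, (∀ k ∈ Kb, ψ k • (g : G ⧸ ψ.range) = (g : G ⧸ ψ.range)) →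
      (g ∈ ψ.range ∨ lab (g : G ⧸ ψ.range) = 1) := by
    intro g hk
    have h := F.card_stab (g : G ⧸ ψ.range) h1 h2 h3
    let φ : Kb →* MulAction.stabilizer ψ.range (g : G ⧸ ψ.range) :=
      (ψ.rangeRestrict.comp Kb.subtype).codRestrict _ fun k => hk k k.2
    have hd : 126000 ∣ Nat.card (MulAction.stabilizer ψ.range (g : G ⧸ ψ.range)) := by
      rw [← card_Kb F.bound]
      exact Subgroup.card_dvd_of_injective φ fun a b e =>
        Subtype.ext (F.inj (show ψ (a : Hbar) = ψ (b : Hbar) from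
          congrArg (fun u : MulAction.stabilizer ψ.range (g : G ⧸ ψ.range) => ((u : ψ.range) : G)) e))
    obtain ⟨m, hm⟩ := hd
    rw [hm] at h
    have h' : sizes (lab (g : G ⧸ ψ.range)) ∣ 1408 := ⟨m, by
      refine Nat.eq_of_mul_eq_mul_left (by norm_num : 0 < 126000) ?_
      rw [show 126000 * 1408 = 177408000 by norm_num, ← h]; ring⟩
    exact ((sizes_facts _).2.1 h').imp (hmem g) id
  intro g hy ha
  have hgK := hfix g hy ha
  rcases hlab g hgK with hg | hg
  · exact ⟨0, by simpa using hg⟩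
  have hcy : Commute t y := F.rel.t_comm_y
  have hca : Commute t (x⁻¹ * y * x) := by
    have e : x⁻¹ * t ^ 2 * x = t := by rw [← F.rel.xtx']; group
    rw [← e]
    simpa [mul_assoc] using (hcy.pow_left 2).map (MulAut.conj x⁻¹).toMonoidHom
  have htK : ∀ k ∈ Kb, Commute t (ψ k) := by
    intro k hk
    refine Subgroup.closure_induction (p := fun k _ => Commute t (ψ k)) ?_ ?_ ?_ ?_ hk
    · rintro k (rfl | rfl)
      · rw [Yb, F.ψy]; exact hcy
      · rw [F.ψA]; exact hca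
    · rw [map_one]; exact Commute.one_right t
    · intro a b _ _ ha hb; rw [map_mul]; exact ha.mul_right hb
    · intro a _ ha; rw [map_inv]; exact ha.inv_right
  have htfix : ∀ k ∈ Kb, ψ k • (t : G ⧸ ψ.range) = (t : G ⧸ ψ.range) := by
    intro k hk
    show ((ψ k * t : G) : G ⧸ ψ.range) = (t : G ⧸ ψ.range)
    rw [← (htK k hk).eq, QuotientGroup.eq]
    simp
  have htn : t ∉ ψ.range := by
    intro h
    have : ψ.range = ⊤ := by
      rw [eq_top_iff, ← F.gen, Subgroup.closure_le]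
      rintro a (rfl | rfl | rfl | rfl)
      exacts [⟨_, F.ψx⟩, ⟨_, F.ψy⟩, ⟨_, F.ψz⟩, h]
    have h' := F.card_range
    rw [this, Subgroup.card_top, F.card] at h'
    norm_num at h'
  have htl := (hlab t htfix).resolve_left htn
  obtain ⟨_, ⟨a, rfl⟩, e⟩ := h2 _ _ (htl.trans hg.symm)
  -- `a` normalises `K`
  have hnorm : ∀ k ∈ Kb, a⁻¹ * k * a ∈ Kb := by
    intro k hk
    have h' : ψ (a⁻¹ * k * a) • (t : G ⧸ ψ.range) = (t : G ⧸ ψ.range) := by
      rw [map_mul, map_mul, map_inv, mul_smul, e, mul_smul, hgK k hk, inv_smul_eq_iff, e]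
    set St := MulAction.stabilizer ψ.range (t : G ⧸ ψ.range)
    let φ : Kb →* St := (ψ.rangeRestrict.comp Kb.subtype).codRestrict _ fun k => htfix k k.2
    have hφ : Function.Injective φ := fun u v e =>
        Subtype.ext (F.inj (show ψ (u : Hbar) = ψ (v : Hbar) from
          congrArg (fun w : St => ((w : ψ.range) : G)) e))
    have hcard := F.card_stab (t : G ⧸ ψ.range) h1 h2 h3
    rw [htl, show sizes 1 = 1408 from rfl] at hcard
    have hcard' : Nat.card St * 1408 = 177408000 := hcard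
    have hbij := (Nat.bijective_iff_injective_and_card φ).2 ⟨hφ, by rw [card_Kb F.bound]; omega⟩
    obtain ⟨k', hk'⟩ := hbij.2 ⟨ψ.rangeRestrict (a⁻¹ * k * a), h'⟩
    have : (k' : Hbar) = a⁻¹ * k * a := F.inj (show ψ (k' : Hbar) = ψ (a⁻¹ * k * a) from
      congrArg (fun w : St => ((w : ψ.range) : G)) hk')
    exact this ▸ k'.2
  have hr : ∀ k ∈ Kb, rep.pt k (rep.pt a⁻¹ 0) = rep.pt a⁻¹ 0 := by
    intro k hk
    have h' : rep.pt (a⁻¹ * k * a) 0 = 0 := Kb_le_stab0 (hnorm k hk)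
    rw [rep.pt_mul, rep.pt_mul] at h'
    exact (rep.pt_inv h').symm
  obtain ⟨i, hi⟩ := fixed_mem F.bound (hr Yb (Subgroup.subset_closure (by simp)))
    (hr Ab (Subgroup.subset_closure (by simp)))
  set k₀ := a⁻¹ * (Xb ^ i)⁻¹
  have hk0 : ψ k₀⁻¹ • (t : G ⧸ ψ.range) = (t : G ⧸ ψ.range) := htfix _ (inv_mem hi)
  have ea : a = (Xb ^ i)⁻¹ * k₀⁻¹ := by simp [k₀]
  rw [ea, map_mul, mul_smul, hk0] at e
  refine ⟨3 ^ i, ?_⟩
  have e' : ((x ^ i)⁻¹ * t : G) = ((g : G) : G ⧸ ψ.range) := by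
    have : ψ (Xb ^ i)⁻¹ = (x ^ i)⁻¹ := by rw [map_inv, map_pow, Xb, F.ψx]
    rw [this] at e
    exact e
  rw [QuotientGroup.eq] at e'
  have hpow : ∀ n : ℕ, (x ^ n)⁻¹ * t * x ^ n = t ^ (3 ^ n) := by
    intro n
    induction n with
    | zero => simp
    | succ n ih =>
      have h3 : x⁻¹ * t * x = t ^ 3 := by
        rw [F.rel.xtx, inv_eq_iff_mul_eq_one, ← pow_add]; exact F.rel.t5
      calc (x ^ (n + 1))⁻¹ * t * x ^ (n + 1) = x⁻¹ * ((x ^ n)⁻¹ * t * x ^ n) * x := by
            rw [pow_succ]; group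
        _ = MulAut.conj x⁻¹ (t ^ 3 ^ n) := by rw [ih]; simp [mul_assoc]
        _ = (t ^ 3) ^ 3 ^ n := by rw [map_pow, ← h3]; simp [mul_assoc]
        _ = t ^ 3 ^ (n + 1) := by rw [← pow_mul, pow_succ']
  have hx : (x ^ i)⁻¹ ∈ ψ.range := inv_mem (pow_mem (show x ∈ ψ.range from ⟨_, F.ψx⟩) i)
  rw [← hpow i]
  have := mul_mem hx e'
  convert this using 1
  group

end Facts

end Cfsg.Agent.Lib.HNOut25
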