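import Mathlib
import Cfsg.Agent.Lib.HNOut25.Assemble

/-!
# The double cover inside `H`: `K₁ → S`

`S` is simple, nonabelian, of order `177408000 / 4`, with `|Aut S| = 2 |S|`, and `K₁ ≤ H` maps onto it with a
kernel of order 2.  Conjugation by `H` gives every automorphism of `S`, so every automorphism of `H` agrees
with an inner one on `K₁` up to `c`, and only `1, c` centralise `K₁` up to `c`.
-/

set_option autoImplicit false

namespace Cfsg.Agent.Lib.HNOut25

open Cfsg.Agent.Lib.HN3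

theorem center_eq_bot_of_simple {S : Type*} [Group S] [IsSimpleGroup S] (hS : ¬ IsMulCommutative S) :
    Subgroup.center S = ⊥ := by
  refine ((inferInstance : (Subgroup.center S).Normal).eq_bot_or_eq_top).resolve_right fun h => hS ⟨⟨fun a b => ?_⟩⟩
  exact (Subgroup.mem_center_iff.1 (h ▸ Subgroup.mem_top b) a)

theorem card_mulAut_eq {S : Type*} [Group S] [Finite S] (hc : Subgroup.center S = ⊥)
    (hout : Nat.card (Cfsg.Out S) = 2) : Nat.card (MulAut S) = 2 * Nat.card S := by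
  rw [Subgroup.card_eq_card_quotient_mul_card_subgroup (Cfsg.Inn S)]
  show Nat.card (Cfsg.Out S) * _ = _
  rw [hout]
  congr 1
  refine (Nat.card_congr (MonoidHom.ofInjective (f := (MulAut.conj : S →* MulAut S)) ?_).toEquiv).symm
  rw [← MonoidHom.ker_eq_bot_iff, eq_bot_iff, ← hc]
  intro a ha
  rw [Subgroup.mem_center_iff]
  intro b
  have := DFunLike.congr_fun (MonoidHom.mem_ker.1 ha) b
  simp only [MulAut.conj_apply, MulAut.one_apply, mul_inv_eq_iff_eq_mul] at this
  exact this.symm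

/-- The double cover inside `H = ψ.range`. -/
structure Cover {G : Type} [Group G] (ψ : Hbar →* G) (S : Type) [Group S] where
  K₁ : Subgroup G
  le : K₁ ≤ ψ.range
  norm : ∀ b ∈ ψ.range, ∀ a ∈ K₁, b * a * b⁻¹ ∈ K₁
  π : K₁ →* S
  surj : Function.Surjective π
  ker : Nat.card π.ker = 2

variable {G : Type} [Group G] {x y z t : G} {ψ : Hbar →* G}

namespace Cover

variable {S : Type} [Group S] [IsSimpleGroup S] [Finite S] (C : Cover ψ S) (F : Facts x y z t ψ)
  (hS : ¬ IsMulCommutative S) (hcard : Nat.card S = 44352000) (hout : Nat.card (Cfsg.Out S) = 2)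

include F hcard in
theorem card_K₁ : Nat.card C.K₁ = 88704000 := by
  rw [Subgroup.card_eq_card_quotient_mul_card_subgroup C.π.ker,
    Nat.card_congr (QuotientGroup.quotientKerEquivOfSurjective C.π C.surj).toEquiv, hcard, C.ker]

include F hcard in
theorem index_two : (C.K₁.subgroupOf ψ.range).index = 2 := by
  haveI := F.finite
  have h := (C.K₁.subgroupOf ψ.range).card_mul_index
  rw [Nat.card_congr (Subgroup.subgroupOfEquivOfLe C.le).toEquiv, C.card_K₁ F hcard, F.card_range] at h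
  omega

/-- a hom to `{1, -1}` killing exactly `K₁` -/
noncomputable def sgn (h2 : (C.K₁.subgroupOf ψ.range).index = 2) : ψ.range →* ℤˣ := by
  classical
  exact
  { toFun := fun a => if a ∈ C.K₁.subgroupOf ψ.range then 1 else -1
    map_one' := by rw [if_pos (one_mem _)]
    map_mul' := fun a b => by
      have h := Subgroup.mul_mem_iff_of_index_two h2 (a := a) (b := b)
      by_cases ha : a ∈ C.K₁.subgroupOf ψ.range <;> by_cases hb : b ∈ C.K₁.subgroupOf ψ.range <;>
        simp [ha, hb, h] }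

theorem sgn_eq_one (h2 : (C.K₁.subgroupOf ψ.range).index = 2) {a : ψ.range} :
    C.sgn h2 a = 1 ↔ (a : G) ∈ C.K₁ := by
  classical
  show (if a ∈ C.K₁.subgroupOf ψ.range then (1 : ℤˣ) else -1) = 1 ↔ _
  by_cases ha : a ∈ C.K₁.subgroupOf ψ.range
  · rw [if_pos ha]; simpa using Subgroup.mem_subgroupOf.1 ha
  · rw [if_neg ha]; simpa using fun h => ha (Subgroup.mem_subgroupOf.2 h)

include F in
theorem gens_top : Subgroup.closure ({a | (a : G) ∈ ({x, y, z} : Set G)} : Set ψ.range) = ⊤ := by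
  refine Subgroup.map_injective (Subgroup.subtype_injective ψ.range) ?_
  rw [MonoidHom.map_closure, ← MonoidHom.range_eq_map, Subgroup.range_subtype, F.range_eq]
  congr 1
  ext a
  constructor
  · rintro ⟨b, hb, rfl⟩; exact hb
  · intro ha
    exact ⟨⟨a, F.range_eq ▸ Subgroup.subset_closure ha⟩, ha, rfl⟩

include F in
/-- a hom from `H` to `{1, -1}` kills `x` and `y` -/
theorem hom_xy (f : ψ.range →* ℤˣ) : ∀ a : ψ.range, (a : G) = x ∨ (a : G) = y → f a = 1 := by
  intro a ha
  let X : ψ.range := ⟨x, _, F.ψx⟩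
  let Y : ψ.range := ⟨y, _, F.ψy⟩
  let Z : ψ.range := ⟨z, _, F.ψz⟩
  have hr : HRel X Y Z := hrel_of_injective ψ.range.subtype Subtype.val_injective F.rel.hrel
  obtain ⟨h1, h2⟩ := sign_xy Int.units_mul_self hr f
  rcases ha with e | e
  · rwa [show a = X from Subtype.ext e]
  · rwa [show a = Y from Subtype.ext e]

include F hcard in
theorem mem_x : x ∈ C.K₁ ∧ y ∈ C.K₁ := by
  have h2 := C.index_two F hcard
  exact ⟨(C.sgn_eq_one h2 (a := ⟨x, _, F.ψx⟩)).1 (hom_xy F _ _ (Or.inl rfl)),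
    (C.sgn_eq_one h2 (a := ⟨y, _, F.ψy⟩)).1 (hom_xy F _ _ (Or.inr rfl))⟩

include F hcard in
theorem c_mem : x ^ 2 ∈ C.K₁ := pow_mem (C.mem_x F hcard).1 2

include F in
theorem commute_c {a : G} (ha : a ∈ ψ.range) : Commute a (x ^ 2) := by
  have hle : ψ.range ≤ Subgroup.centralizer {x ^ 2} := by
    rw [F.range_eq, Subgroup.closure_le]
    rintro g (rfl | rfl | rfl) <;> simp only [SetLike.mem_coe, Subgroup.mem_centralizer_singleton_iff]
    exacts [F.rel.c_comm_x.eq.symm, F.rel.c_comm_y.eq.symm, F.rel.c_comm_z.eq.symm]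
  exact Subgroup.mem_centralizer_singleton_iff.1 (hle ha)

include F hS hcard in
theorem mem_ker {a : C.K₁} : a ∈ C.π.ker ↔ (a : G) = 1 ∨ (a : G) = x ^ 2 := by
  have hc : (⟨x ^ 2, C.c_mem F hcard⟩ : C.K₁) ∈ C.π.ker := by
    have hmem : C.π ⟨x ^ 2, C.c_mem F hcard⟩ ∈ Subgroup.center S := by
      rw [Subgroup.mem_center_iff]
      intro s
      obtain ⟨b, rfl⟩ := C.surj s
      rw [← map_mul, ← map_mul]
      exact congrArg C.π (Subtype.ext (commute_c F (C.le b.2)).eq)
    rw [center_eq_bot_of_simple hS, Subgroup.mem_bot] at hmem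
    exact hmem
  have hne : (⟨x ^ 2, C.c_mem F hcard⟩ : C.K₁) ≠ 1 := fun e => F.c_ne (congrArg Subtype.val e)
  constructor
  · intro ha
    by_contra hn
    simp only [not_or] at hn
    haveI : Finite C.π.ker := Nat.finite_of_card_ne_zero (by rw [C.ker]; norm_num)
    classical
    haveI := Fintype.ofFinite C.π.ker
    have : ({⟨1, one_mem _⟩, ⟨_, hc⟩, ⟨a, ha⟩} : Finset C.π.ker).card = 3 := by
      rw [Finset.card_eq_three]
      refine ⟨_, _, _, ?_, ?_, ?_, rfl⟩
      · exact fun e => hne (congrArg Subtype.val e).symm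
      · exact fun e => hn.1 (congrArg (fun u : C.π.ker => ((u : C.K₁) : G)) e).symm
      · exact fun e => hn.2 (congrArg (fun u : C.π.ker => ((u : C.K₁) : G)) e).symm
    have h3 := Finset.card_le_univ ({⟨1, one_mem _⟩, ⟨_, hc⟩, ⟨a, ha⟩} : Finset C.π.ker)
    rw [this, ← Nat.card_eq_fintype_card, C.ker] at h3
    omega
  · rintro (e | e)
    · rw [show a = 1 from Subtype.ext e]; exact one_mem _
    · rw [show a = ⟨x ^ 2, C.c_mem F hcard⟩ from Subtype.ext e]; exact hc

include F hS hcard in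
theorem centH : ∀ h ∈ ψ.range, (∀ a ∈ C.K₁, h * a * h⁻¹ = a ∨ h * a * h⁻¹ = a * x ^ 2) →
    h = 1 ∨ h = x ^ 2 := by
  rintro _ ⟨h, rfl⟩ hh
  obtain ⟨hxK, hyK⟩ := C.mem_x F hcard
  have hcomm : ∀ g : Hbar, (g = Yb ∨ g = Ab) → ψ g ∈ C.K₁ → Commute h g := by
    intro g hg hgK
    refine F.inj ?_
    rcases hh _ hgK with e | e
    · rw [map_mul, map_mul]; exact mul_inv_eq_iff_eq_mul.1 e
    · refine absurd (F.inj ?_) (noTwist hg h)
      rw [map_mul, map_mul, map_inv, map_mul, F.ψc]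
      exact e
  have hyb : ψ Yb ∈ C.K₁ := by rw [Yb, F.ψy]; exact hyK
  have hab : ψ Ab ∈ C.K₁ := by rw [F.ψA]; exact mul_mem (mul_mem (inv_mem hxK) hyK) hxK
  obtain ⟨i, hi⟩ := central_mem F.bound (hcomm Yb (Or.inl rfl) hyb) (hcomm Ab (Or.inr rfl) hab)
  have hKle : Kb.map ψ ≤ C.K₁ := by
    rw [Kb, MonoidHom.map_closure, Subgroup.closure_le]
    rintro _ ⟨g, rfl | rfl, rfl⟩
    exacts [hyb, hab]
  have hmem : ψ h ∈ C.K₁ := by
    have h1 := mul_mem (hKle ⟨_, hi, rfl⟩) (pow_mem hxK i)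
    rwa [map_mul, map_inv, map_pow, Xb, F.ψx, inv_mul_cancel_right] at h1
  have hcent : C.π ⟨ψ h, hmem⟩ ∈ Subgroup.center S := by
    rw [Subgroup.mem_center_iff]
    intro s
    obtain ⟨a, rfl⟩ := C.surj s
    have key : C.π (⟨ψ h, hmem⟩ * a * (⟨ψ h, hmem⟩ : C.K₁)⁻¹) = C.π a := by
      rw [MonoidHom.eq_iff]
      refine (C.mem_ker F hS hcard).2 ?_
      show ((a : G)⁻¹ * (ψ h * a * (ψ h)⁻¹)) = 1 ∨ (a : G)⁻¹ * (ψ h * a * (ψ h)⁻¹) = x ^ 2
      rcases hh a a.2 with e | e <;> rw [e]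
      · exact Or.inl (inv_mul_cancel _)
      · exact Or.inr (inv_mul_cancel_left _ _)
    rw [map_mul, map_mul, map_inv, mul_inv_eq_iff_eq_mul] at key
    exact key.symm
  rw [center_eq_bot_of_simple hS, Subgroup.mem_bot] at hcent
  exact (C.mem_ker F hS hcard).1 (MonoidHom.mem_ker.2 hcent)

/-- the automorphism of `S` of an automorphism of `K₁` that keeps the kernel -/
noncomputable def ind (β : C.K₁ ≃* C.K₁) (hβ : C.π.ker.map β.toMonoidHom = C.π.ker) : MulAut S :=
  ((QuotientGroup.quotientKerEquivOfSurjective C.π C.surj).symm.trans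
    (QuotientGroup.congr C.π.ker C.π.ker β hβ)).trans
    (QuotientGroup.quotientKerEquivOfSurjective C.π C.surj)

theorem ind_apply (β : C.K₁ ≃* C.K₁) (hβ : C.π.ker.map β.toMonoidHom = C.π.ker) (a : C.K₁) :
    C.ind β hβ (C.π a) = C.π (β a) := by
  have e : (QuotientGroup.quotientKerEquivOfSurjective C.π C.surj).symm (C.π a) =
      (a : C.K₁ ⧸ C.π.ker) := by rw [MulEquiv.symm_apply_eq]; rfl
  show QuotientGroup.quotientKerEquivOfSurjective C.π C.surj (QuotientGroup.congr C.π.ker C.π.ker β hβ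
      ((QuotientGroup.quotientKerEquivOfSurjective C.π C.surj).symm (C.π a))) = _
  rw [e]
  rfl

include F hS hcard in
theorem map_ker (β : C.K₁ ≃* C.K₁) (hc : ∀ a : C.K₁, (a : G) = x ^ 2 → (β a : G) = x ^ 2) :
    C.π.ker.map β.toMonoidHom = C.π.ker := by
  ext a
  constructor
  · rintro ⟨b, hb, rfl⟩
    refine (C.mem_ker F hS hcard).2 ?_
    rcases (C.mem_ker F hS hcard).1 hb with e | e
    · rw [show b = 1 from Subtype.ext e, map_one]; exact Or.inl rfl
    · exact Or.inr (hc b e)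
  · intro ha
    rcases (C.mem_ker F hS hcard).1 ha with e | e
    · exact ⟨1, one_mem _, by rw [map_one]; exact (Subtype.ext e).symm⟩
    · exact ⟨⟨x ^ 2, C.c_mem F hcard⟩, (C.mem_ker F hS hcard).2 (Or.inr rfl),
        Subtype.ext ((hc _ rfl).trans e.symm)⟩

/-- conjugation on `K₁` -/
@[simps] def cj (h : ψ.range) : C.K₁ ≃* C.K₁ where
  toFun a := ⟨h * a * (h : G)⁻¹, C.norm _ h.2 _ a.2⟩
  invFun a := ⟨(h : G)⁻¹ * a * ((h : G)⁻¹)⁻¹, C.norm _ (inv_mem h.2) _ a.2⟩
  left_inv a := Subtype.ext (by simp [mul_assoc])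
  right_inv a := Subtype.ext (by simp [mul_assoc])
  map_mul' a b := Subtype.ext (by simp [mul_assoc])

include F hS hcard in
theorem map_ker_cj (h : ψ.range) : C.π.ker.map (C.cj h).toMonoidHom = C.π.ker :=
  C.map_ker F hS hcard _ fun a e => by
    show (h : G) * a * (h : G)⁻¹ = x ^ 2
    rw [e, (commute_c F h.2).eq, mul_inv_cancel_right]

/-- the action of `H` on `S` -/
noncomputable def act (hm : ∀ h : ψ.range, C.π.ker.map (C.cj h).toMonoidHom = C.π.ker) :
    ψ.range →* MulAut S where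
  toFun h := C.ind (C.cj h) (hm h)
  map_one' := by
    refine MulEquiv.ext fun s => ?_
    obtain ⟨a, rfl⟩ := C.surj s
    rw [C.ind_apply, MulAut.one_apply]
    exact congrArg C.π (Subtype.ext (by simp))
  map_mul' g h := by
    refine MulEquiv.ext fun s => ?_
    obtain ⟨a, rfl⟩ := C.surj s
    rw [MulAut.mul_apply, C.ind_apply, C.ind_apply, C.ind_apply]
    exact congrArg C.π (Subtype.ext (by simp [mul_assoc]))

include F hS hcard hout in
theorem act_surjective (hm : ∀ h : ψ.range, C.π.ker.map (C.cj h).toMonoidHom = C.π.ker) :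
    Function.Surjective (C.act hm) := by
  haveI := F.finite
  have hker : ∀ h : ψ.range, h ∈ (C.act hm).ker → (h : G) = 1 ∨ (h : G) = x ^ 2 := by
    intro h hh
    refine C.centH F hS hcard _ h.2 fun a ha => ?_
    have e := DFunLike.congr_fun (MonoidHom.mem_ker.1 hh) (C.π ⟨a, ha⟩)
    change C.ind (C.cj h) (hm h) (C.π ⟨a, ha⟩) = C.π ⟨a, ha⟩ at e
    rw [C.ind_apply, MonoidHom.eq_iff, C.mem_ker F hS hcard] at e
    rcases e with e | e
    · exact Or.inl (inv_mul_eq_one.1 e).symm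
    · exact Or.inr (inv_mul_eq_iff_eq_mul.1 e)
  have hker2 : Nat.card (C.act hm).ker ≤ 2 := by
    classical
    let f : (C.act hm).ker → Bool := fun h => decide (((h : ψ.range) : G) = 1)
    have hf : Function.Injective f := by
      intro h k e
      apply Subtype.ext; apply Subtype.ext
      rcases hker _ h.2 with e1 | e1 <;> rcases hker _ k.2 with e2 | e2
      · rw [e1, e2]
      · exact absurd e (by simp only [f, e1, e2, F.c_ne, decide_false, decide_true, ne_eq]; decide)
      · exact absurd e (by simp only [f, e1, e2, F.c_ne, decide_false, decide_true, ne_eq]; decide)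
      · rw [e1, e2]
    simpa using Nat.card_le_card_of_injective f hf
  have h := (C.act hm).ker.card_mul_index
  rw [Subgroup.index_ker, F.card_range] at h
  rw [← MonoidHom.range_eq_top]
  refine Subgroup.eq_top_of_le_card _ ?_
  rw [card_mulAut_eq (center_eq_bot_of_simple hS) hout, hcard]
  have h' : 177408000 ≤ 2 * Nat.card (C.act hm).range := h ▸ Nat.mul_le_mul_right _ hker2
  omega

include F hS hcard hout in
theorem autH : ∀ α : MulAut G, (∀ a, a ∈ ψ.range ↔ α a ∈ ψ.range) →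
    ∃ h ∈ ψ.range, ∀ a ∈ C.K₁, h * α a * h⁻¹ = a ∨ h * α a * h⁻¹ = a * x ^ 2 := by
  intro α hα
  haveI := F.finite
  have h2 := C.index_two F hcard
  let αH : ψ.range →* ψ.range :=
    (α.toMonoidHom.comp ψ.range.subtype).codRestrict _ fun a => (hα a).1 a.2
  have hsurjα : Function.Surjective αH := fun b => by
    refine ⟨⟨α.symm b, (hα _).2 (by simpa using b.2)⟩, Subtype.ext ?_⟩
    simp [αH]
  -- `f` and `f ∘ α` kill `x, y`, so both are decided at `z`
  have hz : ∀ f : ψ.range →* ℤˣ, (∀ a, f a = 1) ∨ f ⟨z, _, F.ψz⟩ = -1 := by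
    intro f
    refine (Int.units_eq_one_or (f ⟨z, _, F.ψz⟩)).imp (fun h a => ?_) id
    have : f = 1 := MonoidHom.eq_of_eqOn_dense (gens_top F) fun b hb => by
      rcases hb with e | e | e
      · exact hom_xy F f b (Or.inl e)
      · exact hom_xy F f b (Or.inr e)
      · rw [show b = ⟨z, _, F.ψz⟩ from Subtype.ext e, h]; rfl
    rw [this]; rfl
  have hne : ¬ ∀ a, C.sgn h2 a = 1 := by
    intro h
    rw [show C.K₁.subgroupOf ψ.range = ⊤ from eq_top_iff.2 fun a _ => Subgroup.mem_subgroupOf.2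
      ((C.sgn_eq_one h2).1 (h a)), Subgroup.index_top] at h2
    omega
  have hne' : ¬ ∀ a, (C.sgn h2).comp αH a = 1 := fun h => hne fun a => by
    obtain ⟨b, rfl⟩ := hsurjα a
    exact h b
  have heq : (C.sgn h2).comp αH = C.sgn h2 := MonoidHom.eq_of_eqOn_dense (gens_top F) fun b hb => by
    rcases hb with e | e | e
    · rw [hom_xy F ((C.sgn h2).comp αH) b (Or.inl e), hom_xy F _ b (Or.inl e)]
    · rw [hom_xy F ((C.sgn h2).comp αH) b (Or.inr e), hom_xy F _ b (Or.inr e)]
    · rw [show b = ⟨z, _, F.ψz⟩ from Subtype.ext e, (hz _).resolve_left hne', (hz _).resolve_left hne]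
  have hK : ∀ a, a ∈ C.K₁ ↔ α a ∈ C.K₁ := by
    intro a
    constructor <;> intro ha
    · have := DFunLike.congr_fun heq ⟨a, C.le ha⟩
      rw [(C.sgn_eq_one h2).2 ha] at this
      exact (C.sgn_eq_one h2).1 this
    · have haH : a ∈ ψ.range := (hα a).2 (C.le ha)
      have := DFunLike.congr_fun heq ⟨a, haH⟩
      refine (C.sgn_eq_one h2).1 (this.symm.trans ?_)
      exact (C.sgn_eq_one h2).2 ha
  let β : C.K₁ ≃* C.K₁ :=
    { toFun := fun a => ⟨α a, (hK a).1 a.2⟩
      invFun := fun a => ⟨α.symm a, (hK _).2 (by simpa using a.2)⟩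
      left_inv := fun a => Subtype.ext (by simp)
      right_inv := fun a => Subtype.ext (by simp)
      map_mul' := fun a b => Subtype.ext (by simp) }
  -- `β` fixes `c`, the kernel being the centre
  have hcc : ∀ a : C.K₁, (a : G) = x ^ 2 → (β a : G) = x ^ 2 := by
    intro a e
    have hmem : C.π (β a) ∈ Subgroup.center S := by
      rw [Subgroup.mem_center_iff]
      intro s
      obtain ⟨b, rfl⟩ := C.surj s
      obtain ⟨b', rfl⟩ := β.surjective b
      rw [← map_mul, ← map_mul, ← map_mul, ← map_mul]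
      refine congrArg (fun u => C.π (β u)) (Subtype.ext ?_)
      show (b' : G) * a = a * b'
      rw [e]; exact (commute_c F (C.le b'.2)).eq
    rw [center_eq_bot_of_simple hS, Subgroup.mem_bot] at hmem
    refine ((C.mem_ker F hS hcard).1 (MonoidHom.mem_ker.2 hmem)).resolve_left fun h1 => F.c_ne ?_
    rw [← e]
    exact α.injective (h1.trans (map_one α).symm)
  have hm := C.map_ker_cj F hS hcard
  obtain ⟨g, hg⟩ := C.act_surjective F hS hcard hout hm (C.ind β (C.map_ker F hS hcard β hcc))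
  refine ⟨(g : G)⁻¹, inv_mem g.2, fun a ha => ?_⟩
  have e := DFunLike.congr_fun hg (C.π ⟨a, ha⟩)
  change C.ind (C.cj g) (hm g) (C.π ⟨a, ha⟩) = _ at e
  rw [C.ind_apply, C.ind_apply, MonoidHom.eq_iff, C.mem_ker F hS hcard] at e
  simp only [Subgroup.coe_mul, Subgroup.coe_inv, cj_apply_coe] at e
  change (α a)⁻¹ * ((g : G) * a * (g : G)⁻¹) = 1 ∨ (α a)⁻¹ * ((g : G) * a * (g : G)⁻¹) = x ^ 2 at e
  have hgc := (commute_c F g.2).eq
  rcases e with e | e
  · rw [inv_mul_eq_one] at e
    rw [e]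
    exact Or.inl (by group)
  · rw [inv_mul_eq_iff_eq_mul] at e
    have e' : α a = (g : G) * a * (g : G)⁻¹ * x ^ 2 := by
      rw [e, mul_assoc, F.rel.c_mul_c, mul_one]
    rw [e']
    refine Or.inr ?_
    calc (g : G)⁻¹ * ((g : G) * a * (g : G)⁻¹ * x ^ 2) * ((g : G)⁻¹)⁻¹
        = a * ((g : G)⁻¹ * (x ^ 2 * g)) := by group
      _ = a * x ^ 2 := by rw [← hgc, inv_mul_cancel_left]

include F hS hcard hout in
theorem data (θ : MulAut G) (hθx : θ x = x) (hθy : θ y = y) (hθz : θ z = z * x ^ 2) (hθt : θ t = t ^ 2) :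
    Data x y z t θ ψ.range C.K₁ where
  rel := F.rel
  gen := F.gen
  H_eq := F.range_eq
  θx := hθx
  θy := hθy
  θz := hθz
  θt := hθt
  c_ne := F.c_ne
  t_ne := F.t_ne
  not121 := F.not121
  exists11 := F.exists11
  fix11 := F.fix11
  invol11 := F.invol11
  centc := F.centc
  fixK := F.fixK
  K₁_le := C.le
  K₁_norm := C.norm
  autH := C.autH F hS hcard hout
  centH := C.centH F hS hcard

end Cover

end Cfsg.Agent.Lib.HNOut25
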