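import Mathlib
import Cfsg.Prelude.Def_Spor_HN
import Cfsg.Agent.Lib.HNOut25.Relations

/-!
# The presented group: generators, relations, the automorphism `θ`
-/

set_option autoImplicit false

namespace Cfsg.Agent.Lib.HNOut25.Presented

open Cfsg.Spor

/-- the image of a generator -/
def gn (a : HN.Gen) : Spor.HN := PresentedGroup.of a

/-- `x` -/
def gx : Spor.HN := gn .x

/-- `y` -/
def gy : Spor.HN := gn .y

/-- `z` -/
def gz : Spor.HN := gn .z

/-- `t` -/
def gt : Spor.HN := gn .t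

theorem rels_eq : coxRelators HN.edges ∪ {r | r ∈ HN.extra} = {r | r ∈ HN.extra} := by
  ext r
  simp [coxRelators, coxNodes, HN.edges]

/-- elements with the relations satisfy the relators -/
theorem lift_eq_one {Q : Type*} [Group Q] {a b c d : Q} (h : Rel a b c d) (f : HN.Gen → Q)
    (hx : f .x = a) (hy : f .y = b) (hz : f .z = c) (ht : f .t = d) :
    ∀ r ∈ coxRelators HN.edges ∪ {r | r ∈ HN.extra}, FreeGroup.lift f r = 1 := by
  rw [rels_eq]
  intro r hr
  simp only [HN.extra, Set.mem_setOf_eq, List.mem_cons, List.not_mem_nil, or_false] at hr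
  rcases hr with rfl | rfl | rfl | rfl | rfl | rfl | rfl | rfl | rfl | rfl | rfl | rfl | rfl | rfl <;>
    simp only [map_mul, map_pow, map_inv, HN.x, HN.y, HN.z, HN.t, FreeGroup.lift_apply_of, hx, hy, hz, ht]
  exacts [h.hrel.r1, h.hrel.r2, h.hrel.r3, h.hrel.r4, h.hrel.r5, h.hrel.r6, h.hrel.r7, h.hrel.r8,
    h.hrel.r9, h.hrel.r10, h.t5, h.xt, h.ty, h.zt]

theorem one_of_mem {r : FreeGroup HN.Gen} (h : r ∈ HN.extra) :
    FreeGroup.lift gn r = 1 := by
  have e : FreeGroup.lift gn = PresentedGroup.mk (coxRelators HN.edges ∪ {r | r ∈ HN.extra}) := by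
    refine FreeGroup.ext_hom _ _ fun a => ?_
    rw [FreeGroup.lift_apply_of]
    rfl
  rw [e]
  exact PresentedGroup.one_of_mem (Or.inr h)

theorem all_rels : Cfsg.Agent.Lib.HN3.HRel gx gy gz ∧ gt ^ 5 = 1 ∧ (gx⁻¹ * gt * gx) * (gt ^ 2) = 1 ∧
    gt⁻¹ * gy⁻¹ * gt * gy = 1 ∧ (gz * gt) ^ 3 = 1 := by
  have h : ∀ r ∈ HN.extra, FreeGroup.lift gn r = 1 := fun r hr => one_of_mem hr
  simp only [HN.extra, List.forall_mem_cons, List.not_mem_nil, IsEmpty.forall_iff, implies_true, and_true,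
    map_mul, map_pow, map_inv, HN.x, HN.y, HN.z, HN.t, FreeGroup.lift_apply_of] at h
  obtain ⟨h1, h2, h3, h4, h5, h6, h7, h8, h9, h10, h11, h12, h13, h14⟩ := h
  exact ⟨⟨h1, h2, h3, h4, h5, h6, h7, h8, h9, h10⟩, h11, h12, h13, h14⟩

theorem rel (hx4 : gx ^ 4 = 1) : Rel gx gy gz gt :=
  ⟨all_rels.1, hx4, all_rels.2.1, all_rels.2.2.1, all_rels.2.2.2.1, all_rels.2.2.2.2⟩

theorem gen_top : Subgroup.closure ({gx, gy, gz, gt} : Set Spor.HN) = ⊤ := by
  rw [eq_top_iff, ← PresentedGroup.closure_range_of, Subgroup.closure_le]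
  rintro _ ⟨a, rfl⟩
  cases a <;> exact Subgroup.subset_closure (by simp [gx, gy, gz, gt, gn])

/-- `θ` as an endomorphism -/
noncomputable def thetaHom (h : Rel gx gy gz gt) : Spor.HN →* Spor.HN :=
  PresentedGroup.toGroup (f := fun a => match a with
    | .x => gx | .y => gy | .z => gz * gx ^ 2 | .t => gt ^ 2)
    (lift_eq_one h.twist _ rfl rfl rfl rfl)

theorem thetaHom_gens (h : Rel gx gy gz gt) : thetaHom h gx = gx ∧ thetaHom h gy = gy ∧
    thetaHom h gz = gz * gx ^ 2 ∧ thetaHom h gt = gt ^ 2 :=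
  ⟨PresentedGroup.toGroup.of _, PresentedGroup.toGroup.of _, PresentedGroup.toGroup.of _,
    PresentedGroup.toGroup.of _⟩

theorem thetaHom_sq (h : Rel gx gy gz gt) (a : Spor.HN) :
    thetaHom h (thetaHom h a) = gx ^ 2 * a * (gx ^ 2)⁻¹ := by
  obtain ⟨hx, hy, hz, ht⟩ := thetaHom_gens h
  have e : (thetaHom h).comp (thetaHom h) = (MulAut.conj (gx ^ 2)).toMonoidHom := by
    refine MonoidHom.eq_of_eqOn_dense gen_top fun b hb => ?_
    show thetaHom h (thetaHom h b) = gx ^ 2 * b * (gx ^ 2)⁻¹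
    rcases hb with rfl | rfl | rfl | rfl
    · rw [hx, hx, h.c_comm_x.eq, mul_inv_cancel_right]
    · rw [hy, hy, h.c_comm_y.eq, mul_inv_cancel_right]
    · rw [hz, map_mul, map_pow, hz, hx, mul_assoc, h.c_mul_c, mul_one, h.c_comm_z.eq, mul_inv_cancel_right]
    · rw [ht, map_pow, ht, h.c_inv, h.ctc, ← pow_mul, eq_inv_iff_mul_eq_one, ← pow_succ]
      exact h.t5
  exact DFunLike.congr_fun e a

/-- `θ` -/
noncomputable def theta (h : Rel gx gy gz gt) : MulAut Spor.HN :=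
  MulEquiv.ofBijective (thetaHom h) ⟨fun a b e => by
    have := congrArg (thetaHom h) e
    rw [thetaHom_sq, thetaHom_sq] at this
    exact mul_left_cancel (mul_right_cancel this), fun a =>
    ⟨thetaHom h ((gx ^ 2)⁻¹ * a * gx ^ 2), by rw [thetaHom_sq]; group⟩⟩

end Cfsg.Agent.Lib.HNOut25.Presented
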