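import Mathlib
import Cfsg.Prelude.Def_Spor_HN
import Cfsg.Prelude.Def_SporadicB
import Cfsg.Agent.Lib.HNOut25.Cover
import Cfsg.Agent.Lib.HNOut25.Presented
import Cfsg.Agent.Lib.Compute.Leech.Outer

/-!
# `|Out HN| = 2` from the order, the suborbits and the double cover of `HS`
-/

set_option autoImplicit false

namespace Cfsg.Agent.Lib.HNOut25

open Cfsg.Agent.Lib.HN3 Presented

/-- The subgroup of the double cover statement is `⟨x, y, z⟩`. -/
theorem map_closure_eq :
    (Subgroup.closure ({Cfsg.Spor.HN.x, Cfsg.Spor.HN.y, Cfsg.Spor.HN.z} : Set (FreeGroup Cfsg.Spor.HN.Gen))).map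
      (PresentedGroup.mk (Cfsg.Spor.coxRelators Cfsg.Spor.HN.edges ∪ {r | r ∈ Cfsg.Spor.HN.extra})) =
      Subgroup.closure ({gx, gy, gz} : Set Cfsg.Spor.HN) := by
  rw [MonoidHom.map_closure]
  simp only [Set.image_insert_eq, Set.image_singleton]
  rfl

theorem card_out_HN (hB : HBound) (hcard : Nat.card Cfsg.Spor.HN = 1539000 * 177408000)
    (hH : Nat.card (Subgroup.closure ({gx, gy, gz} : Set Cfsg.Spor.HN)) = 177408000)
    (hsub : Suborbits (Subgroup.closure ({gx, gy, gz} : Set Cfsg.Spor.HN)))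
    (hcov : ∃ K : Subgroup (((Subgroup.closure ({Cfsg.Spor.HN.x, Cfsg.Spor.HN.y, Cfsg.Spor.HN.z} : Set (FreeGroup Cfsg.Spor.HN.Gen))).map (PresentedGroup.mk (Cfsg.Spor.coxRelators Cfsg.Spor.HN.edges ∪ {r | r ∈ Cfsg.Spor.HN.extra})))),
      K.Normal ∧ K.index = 2 ∧ Cfsg.IsNonsplitDoubleCover K Cfsg.Spor.HS) :
    Nat.card (Cfsg.Out Cfsg.Spor.HN) = 2 := by
  haveI : Finite Cfsg.Spor.HN := Nat.finite_of_card_ne_zero (by rw [hcard]; norm_num)
  obtain ⟨ψ, hx, hy, hz⟩ := exists_hom hB all_rels.1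
  have hrange : ψ.range = Subgroup.closure ({gx, gy, gz} : Set Cfsg.Spor.HN) := by
    have htop : Subgroup.closure ({rep.f 0, rep.f 2, rep.f 4} : Set Hbar) = ⊤ := by
      refine Subgroup.map_injective (Subgroup.subtype_injective Hbar) ?_
      rw [MonoidHom.map_closure, ← MonoidHom.range_eq_map, Subgroup.range_subtype]
      simp only [Set.image_insert_eq, Set.image_singleton]
      rfl
    rw [MonoidHom.range_eq_map, ← htop, MonoidHom.map_closure]
    simp [Set.image_insert_eq, hx, hy, hz]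
  have hinj : Function.Injective ψ := by
    have hb : Function.Bijective ψ.rangeRestrict :=
      ψ.rangeRestrict_surjective.bijective_of_nat_card_le (by rw [hrange, hH, card_Hbar hB])
    exact fun a b e => hb.1 (Subtype.ext e)
  have hx4 : gx ^ 4 = 1 := by
    rw [← hx, ← map_pow, show (4 : ℕ) = 2 + 2 from rfl, pow_add,
      show rep.f 0 ^ 2 * rep.f 0 ^ 2 = 1 from c_mul_c, map_one]
  have hrel := rel hx4
  have htne : gt ≠ 1 := by
    intro e
    have htop : Subgroup.closure ({gx, gy, gz} : Set Cfsg.Spor.HN) = ⊤ := by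
      rw [eq_top_iff, ← gen_top, Subgroup.closure_le]
      rintro a (rfl | rfl | rfl | rfl)
      exacts [Subgroup.subset_closure (by simp), Subgroup.subset_closure (by simp),
        Subgroup.subset_closure (by simp), e ▸ one_mem _]
    rw [htop, Subgroup.card_top, hcard] at hH
    norm_num at hH
  have F : Facts gx gy gz gt ψ := ⟨hrel, gen_top, hB, hinj, hx, hy, hz, hcard, htne, hrange ▸ hsub⟩
  haveI := Lib.Leech.isSimpleGroup_HS
  haveI : Finite Cfsg.Spor.HS := Nat.finite_of_card_ne_zero (by rw [Lib.Leech.card_HS]; norm_num)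
  have hna : ¬ IsMulCommutative Cfsg.Spor.HS := by
    intro h
    letI : CommGroup Cfsg.Spor.HS :=
      { (inferInstance : Group Cfsg.Spor.HS) with mul_comm := h.1.1 }
    have h' := IsSimpleGroup.prime_card (α := Cfsg.Spor.HS)
    rw [Lib.Leech.card_HS] at h'
    norm_num at h'
  set M := (Subgroup.closure ({Cfsg.Spor.HN.x, Cfsg.Spor.HN.y, Cfsg.Spor.HN.z} : Set (FreeGroup Cfsg.Spor.HN.Gen))).map (PresentedGroup.mk (Cfsg.Spor.coxRelators Cfsg.Spor.HN.edges ∪ {r | r ∈ Cfsg.Spor.HN.extra}))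
    with hM
  obtain ⟨K, hKn, -, hc2, ⟨e⟩, -⟩ := hcov
  have hMr : M = ψ.range := map_closure_eq.trans hrange.symm
  let eK : K ≃* K.map M.subtype := K.equivMapOfInjective _ M.subtype_injective
  let π : K.map M.subtype →* Cfsg.Spor.HS :=
    (e.toMonoidHom.comp (QuotientGroup.mk' (Subgroup.center K))).comp eK.symm.toMonoidHom
  let C : Cover ψ Cfsg.Spor.HS :=
    { K₁ := K.map M.subtype
      le := fun a ha => by
        obtain ⟨b, -, rfl⟩ := ha
        exact hMr ▸ b.2
      norm := fun b hb a ha => by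
        obtain ⟨a', ha', rfl⟩ := ha
        exact ⟨⟨b, hMr ▸ hb⟩ * a' * (⟨b, hMr ▸ hb⟩ : M)⁻¹, hKn.conj_mem _ ha' _, rfl⟩
      π := π
      surj := e.surjective.comp ((QuotientGroup.mk'_surjective _).comp eK.symm.surjective)
      ker := by
        rw [show π.ker = (Subgroup.center K).map eK.toMonoidHom from ?_]
        · rw [← Nat.card_congr (Subgroup.equivMapOfInjective _ _ eK.injective).toEquiv, hc2]
        · ext a
          rw [MonoidHom.mem_ker, Subgroup.mem_map_equiv]
          show e (QuotientGroup.mk' _ (eK.symm a)) = 1 ↔ _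
          rw [MulEquiv.map_eq_one_iff, QuotientGroup.mk'_apply, QuotientGroup.eq_one_iff] }
  obtain ⟨hθx, hθy, hθz, hθt⟩ := thetaHom_gens hrel
  exact (C.data F hna Lib.Leech.card_HS Lib.Compute.Leech.card_out_HS (theta hrel) hθx hθy hθz hθt).card_out

end Cfsg.Agent.Lib.HNOut25
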