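import Mathlib
import Cfsg.Agent.Lib.HNOut25.Main
import Cfsg.Agent.Lib.HN3.HS64Transfer

/-!
# The suborbits from a model on the cosets of nine subgroups, and the double cover from the order
-/

set_option autoImplicit false

namespace Cfsg.Agent.Lib.HNOut25

open Cfsg.Agent.Lib.HN3 Presented

/-- the place in `sizes` of the orbits of the enumeration, whose stabilisers have the orders
177408000, 126000, 80640, 5040, 1440, 640, 500, 240, 30720 -/
def place : Fin 9 → Fin 9 := ![0, 1, 2, 4, 5, 6, 7, 8, 3]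

/-- the stabiliser orders, in the order of `sizes` -/
def orders : Fin 9 → ℕ := ![177408000, 126000, 80640, 30720, 5040, 1440, 640, 500, 240]

theorem place_bij : Function.Bijective place := by decide +kernel

theorem orders_mul : ∀ i, orders i * sizes i = 177408000 := by decide +kernel

theorem suborbits_of_model {G : Type} [Group G] (ψ : Hbar →* G) (T : Fin 9 → Subgroup Hbar)
    (e : (Σ j, Hbar ⧸ T j) ≃ G ⧸ ψ.range)
    (he : ∀ (j : Fin 9) (a : Hbar) (p : Hbar ⧸ T j), e ⟨j, a • p⟩ = ψ a • e ⟨j, p⟩)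
    (hB : HBound) (hT : ∀ j, Nat.card (T j) = orders (place j)) : Suborbits ψ.range := by
  refine ⟨fun q => place (e.symm q).1, ?_, ?_, ?_⟩
  · rintro _ ⟨a, rfl⟩ q
    obtain ⟨⟨j, p⟩, rfl⟩ := e.surjective q
    show place (e.symm (ψ a • e ⟨j, p⟩)).1 = place (e.symm (e ⟨j, p⟩)).1
    rw [← he, Equiv.symm_apply_apply, Equiv.symm_apply_apply]
  · intro q q' h
    obtain ⟨⟨j, p⟩, rfl⟩ := e.surjective q
    obtain ⟨⟨j', p'⟩, rfl⟩ := e.surjective q'
    simp only [Equiv.symm_apply_apply] at h
    obtain rfl := place_bij.1 h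
    obtain ⟨a, ha⟩ := MulAction.exists_smul_eq Hbar p p'
    exact ⟨ψ a, ⟨a, rfl⟩, by rw [← he, ha]⟩
  · intro i
    obtain ⟨j, rfl⟩ := place_bij.2 i
    have e' : (Hbar ⧸ T j) ≃ {q // place (e.symm q).1 = place j} :=
      Equiv.ofBijective (fun p => ⟨e ⟨j, p⟩, by rw [Equiv.symm_apply_apply]⟩) ⟨fun p p' h => by
        have := e.injective (congrArg Subtype.val h)
        simpa using this, fun q => by
        obtain ⟨q, hq⟩ := q
        obtain ⟨⟨j', p⟩, rfl⟩ := e.surjective q
        have hq' : place j' = place j := by simpa using hq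
        obtain rfl := place_bij.1 hq'
        exact ⟨p, rfl⟩⟩
    rw [← Nat.card_congr e']
    have h := (T j).card_mul_index
    rw [hT, card_Hbar hB, Subgroup.index_eq_card, ← orders_mul (place j)] at h
    have hpos : 0 < orders (place j) := by
      have := orders_mul (place j)
      rcases Nat.eq_zero_or_pos (orders (place j)) with h0 | h0
      · rw [h0, zero_mul] at this; omega
      · exact h0
    exact Nat.eq_of_mul_eq_mul_left hpos h

theorem card_out_of_model (hB : HBound) (hcard : Nat.card Cfsg.Spor.HN = 1539000 * 177408000)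
    (hH : Nat.card (Subgroup.closure ({gx, gy, gz} : Set Cfsg.Spor.HN)) = 177408000)
    (hsub : Suborbits (Subgroup.closure ({gx, gy, gz} : Set Cfsg.Spor.HN))) :
    Nat.card (Cfsg.Out Cfsg.Spor.HN) = 2 := by
  refine card_out_HN hB hcard hH hsub ?_
  rw [map_closure_eq]
  exact HS64.double_cover_of_card hB all_rels.1 hH.ge

end Cfsg.Agent.Lib.HNOut25
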