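import Mathlib
import Cfsg.Agent.Lib.HN3.Model
import Cfsg.Agent.Lib.HN3.HOrder
import Cfsg.Agent.Lib.HNOut25.Glue

/-!
# `|Out HN| = 2`: the model plugged into the local argument
-/

set_option autoImplicit false

namespace Cfsg.Agent.Lib.HNOut25

open Cfsg.Agent.Lib.HN3 Presented

theorem gens_eq : gx = hnGen .x ∧ gy = hnGen .y ∧ gz = hnGen .z ∧ gt = hnGen .t :=
  ⟨rfl, rfl, rfl, rfl⟩

theorem orders_eq : ∀ j : Fin 9, orders (place j) = nth 0 hnOrders (j : ℕ) := by decide +kernel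

theorem suborbits_presented (hB : HBound) :
    Suborbits (Subgroup.closure ({gx, gy, gz} : Set Cfsg.Spor.HN)) := by
  obtain ⟨C, h0, h2, h4, ht⟩ := exists_ctx hB
  obtain ⟨e, he⟩ := exists_equiv hB h0 h2 h4 ht
  rw [show Subgroup.closure ({gx, gy, gz} : Set Cfsg.Spor.HN) = C.φ.range from
    (range_phi hB h0 h2 h4).symm]
  exact suborbits_of_model C.φ (fun j => hnS (j : ℕ)) e he hB fun j => by
    rw [card_hnS hB j.2, orders_eq]

theorem card_out_of_bound (hB : HBound) : Nat.card (Cfsg.Out Cfsg.Spor.HN) = 2 := by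
  obtain ⟨-, hH, -, hcard⟩ := hn_facts hB
  exact card_out_of_model hB (by rw [hcard]) hH (suborbits_presented hB)

end Cfsg.Agent.Lib.HNOut25
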